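import Groth.Agent.CohPullLib.FibreVanish
import Groth.Agent.CohPullLib.Edge
import Groth.Agent.AModX.Res
import Groth.Agent.H23.Seesaw
import Groth.Agent.SeesawGen.Rep
import Groth.Agent.FlatBC6.Main
import Groth.Agent.S0494

/-!
Fibrewise vanishing, higher direct images and cohomology of the total space.
-/

set_option autoImplicit false
set_option linter.style.haveILetI false
set_option linter.unusedSectionVars false
set_option backward.isDefEq.respectTransparency false
set_option backward.isDefEq.respectTransparency.types false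
set_option maxHeartbeats 1000000

universe u

open CategoryTheory CategoryTheory.Limits AlgebraicGeometry TopologicalSpace Opposite
open scoped TensorProduct

noncomputable section

namespace Groth.Agent.AVTheta8

open Groth.Agent Groth.Agent.CohPullLib

section Iso

variable {Z W : Scheme.{u}} (i : Z ⟶ W) [IsIso i]

theorem subsingleton_HH_pullback_iff (M : W.Modules) [Coh.IsQCoh M] (p : ℕ) :
    Subsingleton (Coh.HH Z ((Scheme.Modules.pullback i).obj M) p) ↔ Subsingleton (Coh.HH W M p) := by
  haveI : Coh.IsQCoh ((Scheme.Modules.pullback i).obj M) := QCoh.isQCoh_pullback i ‹_›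
  have h := pushEdge_bijective_of_isAffineHom i ((Scheme.Modules.pullback i).obj M) p
  haveI : IsIso ((Scheme.Modules.pullbackPushforwardAdjunction i).unit.app M) := isIso_unit_of_isIso' i M
  let e := (Scheme.Modules.pullbackPushforwardAdjunction i).unit.app M
  refine ⟨fun hs => ?_, fun hs => ?_⟩
  · exact QCoh.subsingleton_HH_of_iso (asIso e).symm p (h.1.subsingleton)
  · haveI : Subsingleton (Coh.HH W ((Scheme.Modules.pushforward i).obj ((Scheme.Modules.pullback i).obj M)) p) :=
      QCoh.subsingleton_HH_of_iso (asIso e) p hs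
    exact h.2.subsingleton
where
  isIso_unit_of_isIso' {Z W : Scheme.{u}} (i : Z ⟶ W) [IsIso i] (M : W.Modules) :
      IsIso ((Scheme.Modules.pullbackPushforwardAdjunction i).unit.app M) := by
    haveI := isEquivalence_pushforward' i
    haveI : (Scheme.Modules.pullback i).IsEquivalence :=
      (Scheme.Modules.pullbackPushforwardAdjunction i).isEquivalence_left_of_isEquivalence_right
    infer_instance
  isEquivalence_pushforward' {Y Z : Scheme.{u}} (h : Y ⟶ Z) [IsIso h] :
      (Scheme.Modules.pushforward h).IsEquivalence :=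
    (CategoryTheory.Equivalence.mk (Scheme.Modules.pushforward h) (Scheme.Modules.pushforward (inv h))
      ((Scheme.Modules.pushforwardId Y).symm ≪≫
        Scheme.Modules.pushforwardCongr (IsIso.hom_inv_id h).symm ≪≫
        (Scheme.Modules.pushforwardComp h (inv h)).symm)
      (Scheme.Modules.pushforwardComp (inv h) h ≪≫
        Scheme.Modules.pushforwardCongr (IsIso.inv_hom_id h) ≪≫
        Scheme.Modules.pushforwardId Z)).isEquivalence_functor

end Iso

section Fibre

variable {k : Type u} [Field k] {P S : Scheme.{u}} (f : P ⟶ S)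

/-- Vanishing on the fibre over a rational point is vanishing on any model of that fibre. -/
theorem subsingleton_fiberH_iff (a : Spec (CommRingCat.of k) ⟶ S) (g : S ⟶ Spec (CommRingCat.of k)) (ha : a ≫ g = 𝟙 _)
    {Z : Scheme.{u}} {i : Z ⟶ P} {q : Z ⟶ Spec (CommRingCat.of k)} (sq : IsPullback i q f a)
    (F : P.Modules) [Coh.IsQCoh F] (p : ℕ) :
    Subsingleton (CohIII.fiberH f F (a (IsLocalRing.closedPoint k)) p) ↔
      Subsingleton (Coh.HH Z ((Scheme.Modules.pullback i).obj F) p) := by
  let c := IsLocalRing.closedPoint k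
  haveI : IsIso (a.residueFieldMap c) := by
    rw [ConcreteCategory.isIso_iff_bijective]
    refine ⟨RingHom.injective _, ?_⟩
    have h := Scheme.residueFieldMap_comp a g c
    rw [Scheme.Hom.residueFieldMap_congr ha c] at h
    simp only [Scheme.residueFieldMap_id, Category.comp_id] at h
    haveI : IsIso (g.residueFieldMap (a c) ≫ a.residueFieldMap c) :=
      h ▸ IsIso.comp_isIso' (Iso.isIso_hom _) (IsIso.id _)
    exact Function.Surjective.of_comp (g := (g.residueFieldMap (a c)).hom)
      ((ConcreteCategory.isIso_iff_bijective (g.residueFieldMap (a c) ≫ a.residueFieldMap c)).1 inferInstance).2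
  haveI : IsIso ((Spec (CommRingCat.of k)).fromSpecResidueField c) := isIso_fromSpecResidueField_spec k
  let θ : Spec (S.residueField (a c)) ⟶ Spec (CommRingCat.of k) :=
    inv (Spec.map (a.residueFieldMap c)) ≫ (Spec (CommRingCat.of k)).fromSpecResidueField c
  have hθ : θ ≫ a = S.fromSpecResidueField (a c) := by
    rw [Category.assoc, IsIso.inv_comp_eq]
    exact (Scheme.Hom.SpecMap_residueFieldMap_fromSpecResidueField a c).symm
  haveI : IsIso θ := inferInstance
  have sq' : IsPullback (f.fiberι (a c)) (pullback.snd f (S.fromSpecResidueField (a c)) ≫ θ) f a :=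
    (IsPullback.of_hasPullback f (S.fromSpecResidueField (a c))).of_iso (Iso.refl _) (Iso.refl _) (asIso θ)
      (Iso.refl _) (by simp; rfl) (by simp) (by simp) (by simp [hθ])
  let e := sq'.isoIsPullback _ _ sq
  have he : e.hom ≫ i = f.fiberι (a c) := sq'.isoIsPullback_hom_fst _ _ sq
  haveI : Coh.IsQCoh ((Scheme.Modules.pullback i).obj F) := QCoh.isQCoh_pullback i ‹_›
  let ψ : (Scheme.Modules.pullback e.hom).obj ((Scheme.Modules.pullback i).obj F) ≅ CohIII.fiberMod f F (a c) :=
    (Scheme.Modules.pullbackComp e.hom i).app F ≪≫ (Scheme.Modules.pullbackCongr he).app F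
  rw [← subsingleton_HH_pullback_iff e.hom ((Scheme.Modules.pullback i).obj F) p]
  exact ⟨fun h => QCoh.subsingleton_HH_of_iso ψ.symm p h, fun h => QCoh.subsingleton_HH_of_iso ψ p h⟩
where
  isIso_fromSpecResidueField_spec (k : Type u) [Field k] :
      IsIso ((Spec (CommRingCat.of k)).fromSpecResidueField (IsLocalRing.closedPoint k)) := by
    haveI : Surjective ((Spec (CommRingCat.of k)).fromSpecResidueField (IsLocalRing.closedPoint k)) :=
      ⟨fun s => ⟨IsLocalRing.closedPoint _, Subsingleton.elim (α := PrimeSpectrum k) _ _⟩⟩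
    haveI : IsClosedImmersion ((Spec (CommRingCat.of k)).fromSpecResidueField (IsLocalRing.closedPoint k)) := by
      rw [← isClosed_singleton_iff_isClosedImmersion]
      exact isClosed_discrete (α := PrimeSpectrum k) _
    exact isIso_of_isClosedImmersion_of_surjective _

end Fibre

section Push

variable {P S : Scheme.{u}} (f : P ⟶ S) [IsProper f] [LocallyOfFinitePresentation f] {F : P.Modules}

/-- Fibrewise vanishing at the closed points of an open set kills the direct image there. -/
theorem isZero_restrict_of_closedPoints [HasInjectiveResolutions P.Modules] [JacobsonSpace S] (hF : Coh.IsQCoh F)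
    (hfp : CohB1.IsFP F) (hfl : FlatMod.IsFlatOver f F) (p : ℕ) (U : S.Opens)
    (h : ∀ y ∈ U, IsClosed ({y} : Set S) → Subsingleton (CohIII.fiberH f F y p)) :
    IsZero (((Coh.Rpush f p).obj F).restrict U.ι) := by
  refine isZero_restrict_of_vanAt hF p fun y hy => ?_
  have hopen : IsOpen {y : S | VanAt f F p y} := isOpen_iff_forall_mem_open.2
    fun _ ⟨V, hV, Q, hs, hQ, hz⟩ => ⟨V, fun t ht => ⟨V, hV, Q, ht, hQ, hz⟩, V.2, hs⟩
  by_contra hn
  obtain ⟨z, hz, hzc⟩ := nonempty_inter_closedPoints (Z := (U : Set S) ∩ {y : S | VanAt f F p y}ᶜ)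
    ⟨y, hy, hn⟩ (U.2.isLocallyClosed.inter hopen.isClosed_compl.isLocallyClosed)
  exact hz.2 (vanAt_of_subsingleton hF hfp hfl p (h z hz.1 (mem_closedPoints_iff.1 hzc)))

/-- If all direct images vanish then the cohomology of every fibre vanishes. -/
theorem vanAt_of_isZero_Rpush [HasInjectiveResolutions P.Modules] (hF : Coh.IsQCoh F) (hfp : CohB1.IsFP F)
    (hfl : FlatMod.IsFlatOver f F) (h : ∀ q, IsZero ((Coh.Rpush f q).obj F)) (p : ℕ) (y : S) :
    VanAt f F p y := by
  obtain ⟨V, hV, Q, hy, -, hQ⟩ := exists_isModel_nhd (f := f) hF hfp hfl (show y ∈ (⊤ : S.Opens) from trivial)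
  have hA : ∀ q : ℤ, Subsingleton ((CohIII.TFun Q q).obj (ModuleCat.of Γ(S, V) Γ(S, V))) := fun q => by
    rcases lt_or_ge 0 q with hq | hq
    · exact ModuleCat.subsingleton_of_isZero (hQ.2.2.2.1 q hq _)
    · obtain ⟨n, rfl⟩ : ∃ n : ℕ, q = -(n : ℤ) := ⟨q.natAbs, by lia⟩
      obtain ⟨l⟩ := hQ.nonempty_sections hF n
      haveI : Subsingleton Γ((Coh.Rpush f n).obj F, V) := subsingleton_of_isZero_mod (h n) V
      haveI : Subsingleton (Q.homology (-(n : ℤ))) := l.symm.toEquiv.subsingleton
      exact (FlatCxLib.tUnitIso (P := Q) (-(n : ℤ))).toLinearEquiv.toEquiv.subsingleton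
  obtain ⟨c, hc⟩ := hQ.2.2.1
  have key : ∀ (n : ℕ) (q : ℤ), q < c + n → ∀ M, IsZero ((CohIII.TFun Q q).obj M) := by
    intro n
    induction n with
    | zero => exact fun q hq M => isZero_T_of_isZero_X Q (hc q (by omega)) M
    | succ n ih =>
      intro q hq M
      have hm : (CohIII.TFun Q (q - 1)).PreservesMonomorphisms :=
        ⟨fun {A B} g _ => ⟨fun _ _ _ => (ih (q - 1) (by omega) A).eq_of_tgt _ _⟩⟩
      have he := (FlatCxLib.preservesEpi_iff_preservesMono hQ.flat (show q - 1 + 1 = q by lia)).2 hm
      haveI := hA q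
      haveI : Subsingleton ((CohIII.TFun Q q).obj M) :=
        (bijective_tM_of_preservesEpi hQ.flat he M).2.subsingleton
      exact ModuleCat.isZero_of_subsingleton _
  exact ⟨V, hV, Q, hy, hQ, fun M => key ((-(p : ℤ)) - c).natAbs.succ _ (by omega) M⟩
where
  subsingleton_of_isZero_mod {S : Scheme.{u}} {M : S.Modules} (h : IsZero M) (V : S.Opens) :
      Subsingleton Γ(M, V) := by
    refine subsingleton_of_forall_eq 0 fun s => ?_
    have e : (𝟙 M : M ⟶ M) = 0 := h.eq_of_src _ _
    have := congr(($e).app V s)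
    simpa using this
  isZero_T_of_isZero_X {A : Type u} [CommRing A] (Q : ChainComplex (ModuleCat.{u} A) ℤ) {q : ℤ} (h : IsZero (Q.X q))
      (M : ModuleCat.{u} A) : IsZero ((CohIII.TFun Q q).obj M) := by
    refine ShortComplex.exact_iff_isZero_homology _ |>.1 ?_
    refine ShortComplex.exact_of_isZero_X₂ _ ?_
    haveI := ModuleCat.subsingleton_of_isZero h
    haveI : Subsingleton (Q.X q ⊗[A] M) := subsingleton_of_forall_eq 0 fun z => by
      induction z using TensorProduct.induction_on with
      | zero => rfl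
      | add a b ha hb => rw [ha, hb, add_zero]
      | tmul x m => rw [Subsingleton.elim x 0, TensorProduct.zero_tmul]
    exact ModuleCat.isZero_of_subsingleton (ModuleCat.of A (Q.X q ⊗[A] M))

/-- If all direct images vanish the cohomology vanishes. -/
theorem subsingleton_HH_of_isZero_Rpush [HasInjectiveResolutions P.Modules]
    (h : ∀ q, IsZero ((Coh.Rpush f q).obj F)) (p : ℕ) : Subsingleton (Coh.HH P F p) := by
  haveI := FlatBC6.isIso_rcl_zero (M := F) (f := f)
  have hz : IsZero ((Scheme.Modules.pushforward f).obj F) := (h 0).of_iso (asIso (FlatBC6.rcl F f 0))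
  haveI : Subsingleton (Coh.HH S ((Scheme.Modules.pushforward f).obj F) p) := by
    refine subsingleton_of_forall_eq 0 fun x => ?_
    have e : Coh.toAb ((Scheme.Modules.pushforward f).obj F) = _ := rfl
    have h0 : IsZero (Coh.toAb ((Scheme.Modules.pushforward f).obj F)) :=
      (SheafOfModules.toSheaf S.ringCatSheaf).map_isZero hz
    rw [← Sheaf.H.map_id_apply x, h0.eq_of_src (𝟙 _) 0]
    exact (congrArg (fun φ => φ) (show Sheaf.H.map (0 : Coh.toAb ((Scheme.Modules.pushforward f).obj F) ⟶ _) p x = 0 by
      simp [Sheaf.H.map]))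
  exact (pushEdge_bijective_of_Rpush_isZero f F (fun q _ => h q) p).2.subsingleton

end Push

end Groth.Agent.AVTheta8
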