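import Groth.Agent.AVTheta8.AlgEq
import Groth.Agent.NormX.NormalAmple

/-!
Homomorphisms of abelian varieties and classes algebraically equivalent to zero.
-/

set_option autoImplicit false
set_option linter.style.haveILetI false
set_option linter.unusedSectionVars false
set_option backward.isDefEq.respectTransparency false
set_option backward.isDefEq.respectTransparency.types false
set_option maxHeartbeats 800000

universe u

open CategoryTheory CategoryTheory.Limits MonoidalCategory CartesianMonoidalCategory MonObj AlgebraicGeometry TopologicalSpace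

noncomputable section

namespace Groth.Agent.AVTheta8

open Groth.Agent Groth.Agent.H23 Groth.Agent.AVCube Groth.Agent.AVPair
open scoped Groth.Agent.H23.PicMul

variable {k : Type u} [Field k] [IsAlgClosed k] {A : Over (Spec (CommRingCat.of k))} [GrpObj A] [IsProper A.hom]
  [GeometricallyIntegral A.hom] {B : Over (Spec (CommRingCat.of k))} [GrpObj B] [IsProper B.hom]
  [GeometricallyIntegral B.hom]

theorem tr_comp (α : A ⟶ B) [IsMonHom α] (a : 𝟙_ (Over (Spec (CommRingCat.of k))) ⟶ A) :
    CubeAb.tr a ≫ α = α ≫ CubeAb.tr (a ≫ α) := by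
  simp only [CubeAb.tr, MonObj.comp_mul, MonObj.mul_comp, Category.id_comp, Category.comp_id, ← Category.assoc]
  rw [toUnit_unique (α ≫ toUnit B) (toUnit A)]

theorem pc_pullback (α : A ⟶ B) {L : B.left.Modules} (hL : PicF.IsInvertible L)
    {T : Over (Spec (CommRingCat.of k))} (f : T ⟶ A) :
    pc (PicClLib.isInvertible_pullback α.left hL) f = pc hL (f ≫ α) :=
  Units.ext (pl_pl f α (PicF.cl L))

theorem delta_pullback (α : A ⟶ B) [IsMonHom α] {L : B.left.Modules} (hL : PicF.IsInvertible L)
    (a : 𝟙_ (Over (Spec (CommRingCat.of k))) ⟶ A) :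
    delta (PicClLib.isInvertible_pullback α.left hL) a =
      Units.map (PicMul.pullHom α.left : PicF.Cl B.left →* PicF.Cl A.left) (delta hL (a ≫ α)) := by
  rw [delta, delta, pc_pullback, pc_pullback, tr_comp, Category.id_comp, map_div, pull_pc, pull_pc, Category.comp_id]

/-- The transpose of a finite homomorphism is surjective on classes algebraically equivalent to zero. -/
theorem exists_pullback_algEquivZero (α : A ⟶ B) [IsMonHom α] [IsFinite α.left] {M : A.left.Modules}
    (hM : PicF.IsInvertible M) (hMa : @Pic13.IsAlgEquivZero k _ A.left ⟨A.hom⟩ M) :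
    ∃ N : B.left.Modules, PicF.IsInvertible N ∧ @Pic13.IsAlgEquivZero k _ B.left ⟨B.hom⟩ N ∧
      PicF.cl ((Scheme.Modules.pullback α.left).obj N) = PicF.cl M := by
  obtain ⟨L, hL⟩ := AVProj.exists_isAmple (X := B)
  have hLA : CohB1.IsAmple ((Scheme.Modules.pullback α.left).obj L) := NormX.isAmple_pullback_affine α.left hL
  obtain ⟨a, ha⟩ := exists_translate hLA.1 hM (invariant_of_algEquivZero hM hMa)
    ((Groth.Agent.S12002.result k A _ hLA).subset fun a ha => (F_tr_eq_iff a).1 ha)
  obtain ⟨N, hN, hNa⟩ := algEquivZero_delta hL.1 (a ≫ α)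
  have hd : delta hLA.1 a = pc hM (𝟙 A) := by
    rw [delta, div_eq_iff_eq_mul]
    ext
    rw [Units.val_mul, val_pc_id, val_pc_id]
    exact ha
  have hNi : PicF.IsInvertibleCl (PicF.cl N) := by
    rw [hN, delta, div_eq_mul_inv, Units.val_mul]
    exact PicMul.isInvertibleCl_mul (PicClLib.isInvertibleCl_pullCl _ ⟨L, rfl, hL.1⟩)
      (isInvertibleCl_units (PicClLib.isInvertibleCl_pullCl _ ⟨L, rfl, hL.1⟩))
  obtain ⟨N', hN', hN'i⟩ := hNi
  obtain ⟨e⟩ := PicMul.cl_eq_iff.1 hN'
  refine ⟨N', hN'i, AVDual.algEquivZero_of_iso e.symm hNa, ?_⟩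
  show PicMul.pullHom α.left (PicF.cl N') = PicF.cl M
  rw [hN', hN, F_units α, ← delta_pullback α hL.1 a]
  exact (congrArg Units.val hd).trans (val_pc_id hM)

end Groth.Agent.AVTheta8
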