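import Groth.Agent.AVTheta8.Stab
import Groth.Agent.AVTheta8.Dual
import Groth.Agent.EulerConst.Tau
import Groth.Agent.VarDim.Top

/-!
A degenerate module has vanishing Euler characteristic.
-/

set_option autoImplicit false
set_option linter.style.haveILetI false
set_option linter.unusedSectionVars false
set_option backward.isDefEq.respectTransparency false
set_option backward.isDefEq.respectTransparency.types false
set_option maxHeartbeats 1000000

universe u

open CategoryTheory CategoryTheory.Limits MonoidalCategory CartesianMonoidalCategory MonObj AlgebraicGeometry TopologicalSpace Opposite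

noncomputable section

namespace Groth.Agent.AVTheta8

open Groth.Agent Groth.Agent.H23 Groth.Agent.H23.TrivBasic Groth.Agent.AVCube Groth.Agent.AVPair
open scoped Groth.Agent.H23.PicMul

variable {k : Type u} [Field k] [IsAlgClosed k]

/-- Vanishing after pullback along a map with a section gives vanishing. -/
theorem subsingleton_HH_of_retract {P X : Scheme.{u}} [HasInjectiveResolutions X.Modules]
    [HasInjectiveResolutions P.Modules] (π : P ⟶ X) (σ : X ⟶ P) (h : σ ≫ π = 𝟙 X) {L : X.Modules}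
    (hL : Coh.IsQCoh L) (n : ℕ) [Subsingleton (Coh.HH P ((Scheme.Modules.pullback π).obj L) n)] :
    Subsingleton (Coh.HH X L n) := by
  haveI : Coh.IsQCoh L := hL
  haveI : Coh.IsQCoh ((Scheme.Modules.pullback π).obj L) := QCoh.isQCoh_pullback π hL
  haveI : IsIso (⊤ : P.Opens).ι := (Scheme.topIso P).isIso_hom
  haveI : IsIso (⊤ : X.Opens).ι := (Scheme.topIso X).isIso_hom
  haveI : Subsingleton (Coh.HHon P ((Scheme.Modules.pullback π).obj L) ⊤ n) :=
    QCoh.subsingleton_HH_of_iso ((Scheme.Modules.restrictFunctorIsoPullback (⊤ : P.Opens).ι).app _).symm n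
      ((subsingleton_HH_pullback_iff (⊤ : P.Opens).ι _ n).2 ‹_›)
  haveI hs : Subsingleton (Coh.HHon X L ⊤ n) := by
    refine subsingleton_of_forall_eq 0 fun a => ?_
    have h1 := CohPullLib.mapH_pullOn_pullOn σ π L ⊤ ⊤ ⊤ (by intro x _; trivial) (by intro x _; trivial)
      (by intro x _; trivial) n a
    rw [Subsingleton.elim (CohPull.pullOn π ⊤ ⊤ _ L n a) 0, map_zero, map_zero] at h1
    exact eq_zero_of_pullOn_id (σ ≫ π) h _ L n a h1.symm
  rw [← subsingleton_HH_pullback_iff (⊤ : X.Opens).ι L n]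
  exact QCoh.subsingleton_HH_of_iso ((Scheme.Modules.restrictFunctorIsoPullback _).app L) n hs

variable {A C : Over (Spec (CommRingCat.of k))} [GrpObj A] [IsProper A.hom] [GeometricallyIntegral A.hom]
  [GrpObj C] [IsProper C.hom] [GeometricallyIntegral C.hom]

/-- A class invariant along a subvariety splits on the product with it. -/
theorem pl_mul_split (j : C ⟶ A) [IsMonHom j] {L : A.left.Modules} (hL : PicF.IsInvertible L)
    (hj : ∀ y, y ≫ j ∈ stab hL) {T : Over (Spec (CommRingCat.of k))} (f : T ⟶ A) (g : T ⟶ C) :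
    pl (f * (g ≫ j)) (PicF.cl L) = pl f (PicF.cl L) * pl (g ≫ j) (PicF.cl L) := by
  haveI : IsIntegral C.left := GeometricallyIntegral.isIntegral_of_subsingleton C.hom
  let u : (PicF.Cl (A ⊗ C).left)ˣ :=
    pc hL (fst A C * (snd A C ≫ j)) / (pc hL (fst A C) * pc hL (snd A C ≫ j))
  suffices hu : u = 1 by
    have h1 : pc hL (fst A C * (snd A C ≫ j)) = pc hL (fst A C) * pc hL (snd A C ≫ j) := div_eq_one.1 hu
    have h2 := congrArg (fun v : (PicF.Cl (A ⊗ C).left)ˣ => pl (lift f g) (v : PicF.Cl (A ⊗ C).left)) h1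
    simp only [Units.val_mul, val_pc] at h2
    change pl (lift f g) (pl (fst A C * (snd A C ≫ j)) (PicF.cl L)) =
      pl (lift f g) (pl (fst A C) (PicF.cl L) * pl (snd A C ≫ j) (PicF.cl L)) at h2
    rw [map_mul, pl_pl, pl_pl, pl_pl, MonObj.comp_mul, lift_fst, lift_snd_assoc] at h2
    exact h2
  have inv (h : A ⊗ C ⟶ A) : PicF.IsInvertibleCl (pc hL h : PicF.Cl (A ⊗ C).left) :=
    PicClLib.isInvertibleCl_pullCl h.left ⟨L, rfl, hL⟩
  obtain ⟨M, hMcl, hM⟩ : PicF.IsInvertibleCl (u : PicF.Cl (A ⊗ C).left) := by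
    simp only [u, div_eq_mul_inv, mul_inv, Units.val_mul]
    repeat' apply PicMul.isInvertibleCl_mul
    all_goals first | exact inv _ | exact isInvertibleCl_units (inv _)
  have hcl : ∀ {T : Over (Spec (CommRingCat.of k))} (σ : T ⟶ A ⊗ C),
      PicF.cl ((Scheme.Modules.pullback σ.left).obj M) =
        ((pc hL ((σ ≫ fst A C) * (σ ≫ snd A C ≫ j)) / (pc hL (σ ≫ fst A C) * pc hL (σ ≫ snd A C ≫ j)) :
          (PicF.Cl T.left)ˣ) : PicF.Cl T.left) := fun σ => by
    show PicMul.pullHom σ.left (PicF.cl M) = _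
    rw [hMcl, F_units σ u]
    simp only [u, map_div, map_mul, pull_pc, MonObj.comp_mul]
  refine Units.ext (hMcl.symm.trans ((CubeAb.cl_eq_one_iff _).2 ?_))
  refine AVSeesaw.triv_of_slices A C _ hM (fun z hz => ?_) 1 ?_
  · refine AVSeesaw.triv_fibre_of_points A C _ (fun a => ?_) z hz
    refine (CubeAb.cl_eq_one_iff _).1 ?_
    rw [hcl, lift_fst, lift_snd_assoc, Category.assoc, pc_const hL, _root_.mul_one]
    exact congrArg Units.val (hj a)
  · refine (CubeAb.cl_eq_one_iff _).1 ?_
    rw [hcl, lift_fst, lift_snd_assoc, Category.id_comp, _root_.one_mul,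
      show pc hL (1 : C ⟶ A) = 1 from pc_one hL C, _root_.one_mul, div_self']
    rfl

/-- The restriction to the subvariety is additive. -/
theorem isAdditive_restrict (j : C ⟶ A) [IsMonHom j] {L : A.left.Modules} (hL : PicF.IsInvertible L)
    (hj : ∀ y, y ≫ j ∈ stab hL) : CubeAb.IsAdditive (pl j (PicF.cl L)) := by
  show pl (fst C C * snd C C) (pl j (PicF.cl L)) = pl (fst C C) (pl j (PicF.cl L)) * pl (snd C C) (pl j (PicF.cl L))
  rw [pl_pl, pl_pl, pl_pl, MonObj.mul_comp]
  exact pl_mul_split j hL hj _ _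

/-- If the restriction to the subvariety is nontrivial then all cohomology vanishes. -/
theorem subsingleton_HH_of_restrict (j : C ⟶ A) [IsMonHom j] {L : A.left.Modules} (hL : PicF.IsInvertible L)
    (hj : ∀ y, y ≫ j ∈ stab hL) (hne : pl j (PicF.cl L) ≠ 1) (n : ℕ) : Subsingleton (Coh.HH A.left L n) := by
  haveI : IsCommMonObj A := isCommMonObj_of_isProper_of_geometricallyIntegral A
  haveI : IsLocallyNoetherian A.left := LocallyOfFiniteType.isLocallyNoetherian A.hom
  haveI : JacobsonSpace A.left := LocallyOfFiniteType.jacobsonSpace A.hom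
  haveI : LocallyOfFinitePresentation C.hom := inferInstance
  haveI : HasInjectiveResolutions A.left.Modules := KFlatLib.hasInjectiveResolutions_modules
  haveI : HasInjectiveResolutions (A ⊗ C).left.Modules := KFlatLib.hasInjectiveResolutions_modules
  let p := fst A C
  let q := snd A C
  let σ : A ⊗ C ⟶ A ⊗ C := lift (p * (q ≫ j)) q
  let τ : A ⊗ C ⟶ A ⊗ C := lift (p * (q ≫ j)⁻¹) q
  haveI : IsIso σ := ⟨τ, by
    refine CartesianMonoidalCategory.hom_ext _ _ ?_ ?_
    · simp [σ, τ, p, q, MonObj.comp_mul, GrpObj.comp_inv]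
    · simp [σ, τ, p, q], by
    refine CartesianMonoidalCategory.hom_ext _ _ ?_ ?_
    · simp [σ, τ, p, q, MonObj.comp_mul, GrpObj.comp_inv]
    · simp [σ, τ, p, q]⟩
  haveI : IsIso σ.left := (Over.forget _).map_isIso σ
  let K := (Scheme.Modules.pullback σ.left).obj ((Scheme.Modules.pullback p.left).obj L)
  have hK : PicF.IsInvertible K := PicClLib.isInvertible_pullback _ (PicClLib.isInvertible_pullback _ hL)
  have hqK : Coh.IsQCoh K := isFinLocFree_Rpush_field.PicF.w4c5_isQCoh hK
  have hfp := SeesawGen.isFP_of_isInvertible hK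
  haveI : IsProper p.left := inferInstanceAs (IsProper (pullback.fst A.hom C.hom))
  haveI : Flat p.left := inferInstanceAs (Flat (pullback.fst A.hom C.hom))
  haveI : LocallyOfFinitePresentation p.left := inferInstanceAs (LocallyOfFinitePresentation (pullback.fst A.hom C.hom))
  have hp0 : ∀ m, IsZero ((Coh.Rpush p.left m).obj K) := fun m => by
    refine CohPullLib.isZero_of_vanAt hqK m fun y => ?_
    by_contra hn
    have hopen : IsOpen {y : A.left | CohPullLib.VanAt p.left K m y} := isOpen_iff_forall_mem_open.2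
      fun _ ⟨V, hV, Q, hs, hQ, hz⟩ => ⟨V, fun t ht => ⟨V, hV, Q, ht, hQ, hz⟩, V.2, hs⟩
    obtain ⟨z, hz, hzc⟩ := nonempty_inter_closedPoints (Z := {y : A.left | CohPullLib.VanAt p.left K m y}ᶜ)
      ⟨y, hn⟩ hopen.isClosed_compl.isLocallyClosed
    obtain ⟨a, rfl⟩ := AVAmple.exists_pt (mem_closedPoints_iff.1 hzc)
    refine hz (CohPullLib.vanAt_of_subsingleton hqK hfp (Seesaw.isFlatOver_of_isInvertible _ hK) m ?_)
    have sq : IsPullback (lift (toUnit C ≫ a) (𝟙 C)).left C.hom p.left a.left := by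
      refine IsPullback.of_right (h₁₂ := q.left) (v₁₃ := C.hom) (h₂₂ := A.hom) ?_ ?_
        (IsPullback.of_hasPullback A.hom C.hom).flip
      · rw [← Over.comp_left, lift_snd, Over.id_left, Over.w]
        haveI : IsIso (𝟙_ (Over (Spec (CommRingCat.of k)))).hom := inferInstanceAs (IsIso (𝟙 _))
        exact IsPullback.of_horiz_isIso ⟨by simp⟩
      · rw [← Over.comp_left, lift_fst, Over.comp_left, Over.toUnit_left]
    refine (subsingleton_fiberH_iff p.left a.left A.hom (Over.w a) sq K m).2 ?_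
    have hcl : PicF.cl ((Scheme.Modules.pullback (lift (toUnit C ≫ a) (𝟙 C)).left).obj K) = pl j (PicF.cl L) := by
      show pl _ (pl σ (pl p (PicF.cl L))) = _
      rw [pl_pl, pl_pl, Category.assoc, show lift (toUnit C ≫ a) (𝟙 C) ≫ σ ≫ p = (toUnit C ≫ a) * j by
        simp [σ, p, q, MonObj.comp_mul], show j = 𝟙 C ≫ j from (Category.id_comp j).symm,
        pl_mul_split j hL hj, Category.id_comp, show pl (toUnit C ≫ a) (PicF.cl L) = 1 from pl_const ⟨L, rfl, hL⟩ a,
        _root_.one_mul]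
    exact subsingleton_HH_of_additive (PicClLib.isInvertible_pullback _ hK) (hcl ▸ isAdditive_restrict j hL hj)
      (fun ht => hne (hcl.symm.trans ((CubeAb.cl_eq_one_iff _).2 ht))) m
  haveI : Coh.IsQCoh ((Scheme.Modules.pullback p.left).obj L) :=
    QCoh.isQCoh_pullback _ (isFinLocFree_Rpush_field.PicF.w4c5_isQCoh hL)
  haveI := (subsingleton_HH_pullback_iff σ.left ((Scheme.Modules.pullback p.left).obj L) n).1
    (subsingleton_HH_of_isZero_Rpush p.left hp0 n)
  exact subsingleton_HH_of_retract p.left (lift (𝟙 A) (1 : A ⟶ C)).left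
    (by rw [← Over.comp_left, lift_fst]; rfl) (isFinLocFree_Rpush_field.PicF.w4c5_isQCoh hL) n

/-- A degenerate module has Euler characteristic zero. -/
theorem euler_eq_zero_of_degenerate {L : A.left.Modules} (hL : PicF.IsInvertible L)
    (hdeg : Set.Infinite {a : 𝟙_ (Over (Spec (CommRingCat.of k))) ⟶ A |
      Nonempty ((Scheme.Modules.pullback (𝟙 A * (toUnit A ≫ a)).left).obj L ≅ L)}) :
    @Curv2.euler k _ A.left ⟨A.hom⟩ L = 0 := by
  letI : A.left.Over (Spec (CommRingCat.of k)) := ⟨A.hom⟩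
  haveI : IsProper (A.left ↘ Spec (CommRingCat.of k)) := ‹IsProper A.hom›
  haveI : IsIntegral A.left := GeometricallyIntegral.isIntegral_of_subsingleton A.hom
  haveI : IsLocallyNoetherian A.left := LocallyOfFiniteType.isLocallyNoetherian A.hom
  obtain ⟨C, iC, hCp, hCg, j, hjm, hjc, hinf, hj⟩ := exists_subvariety_stab hL hdeg
  have zero : ∀ {M : A.left.Modules} (hM : PicF.IsInvertible M), (∀ y, y ≫ j ∈ stab hM) → pl j (PicF.cl M) ≠ 1 →
      Curv2.euler k A.left M = 0 := fun {M} hM hMj hne => by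
    refine finsum_eq_zero_of_forall_eq_zero fun i => ?_
    haveI := subsingleton_HH_of_restrict j hM hMj hne i
    rw [Module.finrank_zero_of_subsingleton]
    simp
  by_cases h1 : pl j (PicF.cl L) = 1
  swap
  · exact zero hL hj h1
  obtain ⟨H, hH⟩ := AVProj.exists_isAmple (X := A)
  have hHC : CohB1.IsAmple ((Scheme.Modules.pullback j.left).obj H) := NormX.isAmple_pullback_affine j.left hH
  obtain ⟨y, hy⟩ : ∃ y : 𝟙_ (Over (Spec (CommRingCat.of k))) ⟶ C,
      ¬ Nonempty ((Scheme.Modules.pullback (𝟙 C * (toUnit C ≫ y)).left).obj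
        ((Scheme.Modules.pullback j.left).obj H) ≅ (Scheme.Modules.pullback j.left).obj H) := by
    by_contra! hall
    exact (Set.infinite_univ (α := 𝟙_ (Over (Spec (CommRingCat.of k))) ⟶ C))
      ((Groth.Agent.S12002.result k C _ hHC).subset fun y _ => hall y)
  obtain ⟨P, hP, hPa⟩ := algEquivZero_delta hH.1 (y ≫ j)
  obtain ⟨P', hP', hPi⟩ : PicF.IsInvertibleCl (PicF.cl P) := by
    rw [hP, delta, div_eq_mul_inv, Units.val_mul]
    exact PicMul.isInvertibleCl_mul (PicClLib.isInvertibleCl_pullCl _ ⟨H, rfl, hH.1⟩)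
      (isInvertibleCl_units (PicClLib.isInvertibleCl_pullCl _ ⟨H, rfl, hH.1⟩))
  obtain ⟨eP⟩ := PicMul.cl_eq_iff.1 hP'
  have hPa' := AVDual.algEquivZero_of_iso eP.symm hPa
  let M := CohB1.tensorMod L P'
  have hM : PicF.IsInvertible M := InvX.isInvertible_tensorMod hL hPi
  have hMj : ∀ z, z ≫ j ∈ stab hM := fun z => (mem_stab hM _).2 ((F_tr_eq_iff _).1 (by
    show pl (CubeAb.tr (z ≫ j)) (PicF.cl L * PicF.cl P') = PicF.cl L * PicF.cl P'
    rw [map_mul]
    exact congrArg₂ (· * ·) ((delta_eq_one hL _).1 (hj z)) (invariant_of_algEquivZero hPi hPa' _)))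
  have hne : pl j (PicF.cl M) ≠ 1 := by
    show pl j (PicF.cl L * PicF.cl P') ≠ 1
    rw [map_mul, h1, _root_.one_mul, hP', hP, show pl j _ = _ from F_units j _, ← delta_pullback j hH.1 y]
    intro h
    exact hy ((F_tr_eq_iff y).1 ((delta_eq_one hHC.1 y).1 (Units.ext h)))
  obtain ⟨d, hd⟩ : ∃ d : ℕ, topologicalKrullDim A.left ≤ d :=
    ⟨_, (VarDim.topologicalKrullDim_eq_deg_genericPoint A.hom).le⟩
  have h0 := EulerConst.euler_eq_eulerCharLE k d hd (CurveDeg.isCoh_of_isInvertible hL).1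
  have h1 := EulerConst.euler_eq_eulerCharLE k d hd (CurveDeg.isCoh_of_isInvertible hM).1
  rw [h0, ← EulerConst.eulerCharLE_tensor_of_tau k d hd hPi
    ⟨1, Nat.one_pos, AVDual.algEquivZero_of_iso (PicMul.cl_eq_iff.1 (show PicF.cl P' = _ by
      rw [PicMul.cl_tensorPow, pow_one])).some hPa'⟩ (CurveDeg.isCoh_of_isInvertible hL), ← h1]
  exact zero hM hMj hne

end Groth.Agent.AVTheta8
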