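import Groth.Agent.AVTheta8.Fibre
import Groth.Agent.QCoh.RpushAbGod
import Groth.Agent.LerayEuler.Main

/-!
Leray when the direct images are supported in finitely many closed points.
-/

set_option autoImplicit false
set_option linter.style.haveILetI false
set_option linter.unusedSectionVars false
set_option backward.isDefEq.respectTransparency false
set_option backward.isDefEq.respectTransparency.types false
set_option maxHeartbeats 1000000

universe u

open CategoryTheory CategoryTheory.Limits AlgebraicGeometry TopologicalSpace Opposite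

noncomputable section

namespace Groth.Agent.AVTheta8

open Groth.Agent Groth.Agent.AModX

variable {S : Scheme.{u}} {T : Set S} (hT : T.Finite) (hTc : ∀ x ∈ T, IsClosed ({x} : Set S))

/-- The complement of finitely many closed points. -/
def complOpen : S.Opens :=
  ⟨Tᶜ, (isOpen_compl_iff.2 (by
    rw [← Set.biUnion_of_singleton T]
    exact hT.isClosed_biUnion hTc))⟩

include hT hTc in
/-- A module killed outside finitely many closed points is flasque. -/
theorem isFlasqueMod_of_finite {M : S.Modules} (hM : ∀ V : S.Opens, Disjoint (V : Set S) T → Subsingleton Γ(M, V)) :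
    QCoh.IsFlasqueMod M where
  epi {U V} i := by
    refine (AddCommGrpCat.epi_iff_surjective _).2 fun t => ?_
    let V' : S.Opens := V.unop
    let W : S.Opens := complOpen (T := (V' : Set S) ∩ T) (hT.subset Set.inter_subset_right) (fun x hx => hTc x hx.2)
    let op' : ULift.{u} Bool → S.Opens := fun b => if b.down then V' else W
    let sec' : ∀ b, Γ(M, op' b) := fun b =>
      if hb : b.down then AModX.res M (le_of_eq (by simp [op', hb])) (show Γ(M, V') from t) else 0
    have hdis : Disjoint ((V' ⊓ W : S.Opens) : Set S) T := by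
      rw [Set.disjoint_left]
      exact fun x hx hxT => hx.2 ⟨hx.1, hxT⟩
    obtain ⟨s, hs, -⟩ := AModX.existsUnique_glue (M := M) (V := ⊤) op' (fun _ => le_top)
      (fun x _ => by
        by_cases hx : x ∈ (V' : Set S)
        · exact ⟨⟨true⟩, hx⟩
        · exact ⟨⟨false⟩, fun h => hx h.1⟩) sec'
      (fun b c => by
        rcases b with ⟨_ | _⟩ <;> rcases c with ⟨_ | _⟩
        · rfl
        · exact @Subsingleton.elim _ (hM _ (hdis.mono_left (show ((W ⊓ V' : S.Opens) : Set S) ≤ ((V' ⊓ W : S.Opens) : Set S) from fun x hx => ⟨hx.2, hx.1⟩))) _ _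
        · exact @Subsingleton.elim _ (hM _ hdis) _ _
        · rfl)
    refine ⟨AModX.res M le_top s, ?_⟩
    have h1 : AModX.res M (le_top : V' ≤ ⊤) s = (show Γ(M, V') from t) := by
      have := hs ⟨true⟩
      simp only [op', sec', if_true, dif_pos] at this
      exact this.trans (AModX.res_self _)
    exact (AModX.res_res le_top i.unop.le s).trans h1

include hT hTc in
/-- With finitely supported direct images, vanishing of the cohomology kills the direct images. -/
theorem isZero_Rpush_of_finite_support {P : Scheme.{u}} (f : P ⟶ S) [HasInjectiveResolutions P.Modules]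
    {F : P.Modules} (hq : ∀ q, Coh.IsQCoh ((Coh.Rpush f q).obj F))
    (hR : ∀ q, IsZero (((Coh.Rpush f q).obj F).restrict (complOpen hT hTc).ι))
    (hH : ∀ q, Subsingleton (Coh.HH P F q)) (q : ℕ) : IsZero ((Coh.Rpush f q).obj F) := by
  have hsec : ∀ q (V : S.Opens), Disjoint (V : Set S) T → Subsingleton Γ((Coh.Rpush f q).obj F, V) := fun q V hV => by
    have hle : (complOpen hT hTc).ι ''ᵁ ((complOpen hT hTc).ι ⁻¹ᵁ V) = V :=
      (complOpen hT hTc).ι.image_preimage_eq_opensRange_inf V |>.trans (inf_eq_right.2 (by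
        rw [Scheme.Opens.opensRange_ι]
        exact fun x hx => Set.disjoint_left.1 hV hx))
    rw [← hle]
    exact vanAt_of_isZero_Rpush.subsingleton_of_isZero_mod (hR q) ((complOpen hT hTc).ι ⁻¹ᵁ V)
  have hfl : ∀ q, QCoh.IsFlasqueMod ((Coh.Rpush f q).obj F) := fun q => isFlasqueMod_of_finite hT hTc (hsec q)
  have hiso : ∀ q, Nonempty ((CohTop.Rpush f.base q).obj (Coh.toAb F) ≅ Coh.toAb ((Coh.Rpush f q).obj F)) := by
    intro q
    cases q with
    | zero =>
      obtain ⟨e⟩ := QCoh.nonempty_RpushAb_zero_iso f F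
      haveI := QCoh.preservesFiniteLimits_push f
      exact ⟨e ≪≫ ((SheafOfModules.toSheaf S.ringCatSheaf).mapIso
        ((Scheme.Modules.pushforward f).rightDerivedZeroIsoSelf.app F).symm)⟩
    | succ n =>
      obtain ⟨e₁⟩ := QCoh.nonempty_RpushAb_iso f F n
      obtain ⟨e₂⟩ := QCoh.nonempty_Rpush_iso f F n
      exact ⟨e₁ ≪≫ ((SheafOfModules.toSheaf S.ringCatSheaf).mapIso e₂.symm)⟩
  obtain ⟨e⟩ := S0494.result f.base (Coh.toAb F) (fun p q => by
    obtain ⟨i⟩ := hiso q
    haveI := LerayEuler.subsingleton_HH_flasque (hfl q) p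
    exact subsingleton_H_of_iso i.symm (p + 1) this) q
  obtain ⟨i⟩ := hiso q
  haveI := hH q
  haveI : Subsingleton Γ((Coh.Rpush f q).obj F, ⊤) := by
    refine subsingleton_of_forall_eq 0 fun x => ?_
    haveI : Subsingleton (((CohTop.Rpush f.base q).obj (Coh.toAb F)).obj.obj (op ⊤)) := e.symm.toEquiv.subsingleton
    have : Function.Surjective (i.hom.hom.app (op ⊤)).hom :=
      ((ConcreteCategory.isIso_iff_bijective _).1 inferInstance).2
    obtain ⟨y, rfl⟩ := this x
    rw [Subsingleton.elim y 0, map_zero]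
  refine QCoh.isZero_of_cover (hq q) (fun V : S.affineOpens => V.1) (fun V => V.2)
    (fun x => by
      obtain ⟨_, ⟨V, hV, rfl⟩, hx, -⟩ := S.isBasis_affineOpens.exists_subset_of_mem_open (Set.mem_univ x) isOpen_univ
      exact ⟨⟨V, hV⟩, hx⟩) fun V => ?_
  exact Function.Surjective.subsingleton ((AddCommGrpCat.epi_iff_surjective _).1 ((hfl q).epi (homOfLE (le_top : V.1 ≤ ⊤)).op))
where
  subsingleton_H_of_iso {X : TopCat.{u}} {A B : CohTop.Ab X} (e : A ≅ B) (n : ℕ) (h : Subsingleton (CohTop.H A n)) :
      Subsingleton (CohTop.H B n) := by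
    refine subsingleton_of_forall_eq 0 fun x => ?_
    rw [← Sheaf.H.map_id_apply x, ← e.inv_hom_id, Sheaf.H.map_comp_apply, h.elim (Sheaf.H.map e.inv n x) 0, map_zero]

end Groth.Agent.AVTheta8
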