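import Groth.Agent.AVTheta8.Vanish
import Groth.Agent.AVTheta8.FiniteSupp
import Groth.Agent.Lib.AVAmple
import Groth.Agent.Lib.AVCube

/-!
Mumford's theorem 8: a non-degenerate module reaches every translation invariant class.
-/

set_option autoImplicit false
set_option linter.style.haveILetI false
set_option linter.unusedSectionVars false
set_option backward.isDefEq.respectTransparency false
set_option backward.isDefEq.respectTransparency.types false
set_option maxHeartbeats 1000000

universe u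

open CategoryTheory CategoryTheory.Limits MonoidalCategory CartesianMonoidalCategory MonObj AlgebraicGeometry TopologicalSpace Opposite

noncomputable section

namespace Groth.Agent.AVTheta8

open Groth.Agent Groth.Agent.H23 Groth.Agent.H23.TrivBasic Groth.Agent.AVCube
open scoped Groth.Agent.H23.PicMul

variable {k : Type u} [Field k] [IsAlgClosed k] {A : Over (Spec (CommRingCat.of k))} [GrpObj A] [IsProper A.hom]
  [GeometricallyIntegral A.hom] {L M : A.left.Modules}

local notation "Pt" => 𝟙_ (Over (Spec (CommRingCat.of k))) ⟶ A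

theorem pc_const (hL : PicF.IsInvertible L) {T : Over (Spec (CommRingCat.of k))} (a : Pt) :
    pc hL (toUnit T ≫ a) = 1 :=
  Units.ext (CubeAb.F_const ⟨L, rfl, hL⟩ a)

theorem F_units {T T' : Over (Spec (CommRingCat.of k))} (g : T' ⟶ T) (v : (PicF.Cl T.left)ˣ) :
    PicMul.pullHom g.left (v : PicF.Cl T.left) =
      (Units.map (PicMul.pullHom g.left : PicF.Cl T.left →* PicF.Cl T'.left) v : PicF.Cl T'.left) := rfl

/-- The difference of a translate. -/
def delta (hL : PicF.IsInvertible L) (a : Pt) : (PicF.Cl A.left)ˣ := pc hL (CubeAb.tr a) / pc hL (𝟙 A)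

theorem delta_eq_one (hL : PicF.IsInvertible L) (a : Pt) :
    delta hL a = 1 ↔ CubeAb.F (PicF.cl L) (CubeAb.tr a) = PicF.cl L := by
  rw [delta, div_eq_one, ← Units.val_inj, val_pc_id]
  rfl

theorem delta_invariant (hL : PicF.IsInvertible L) (a b : Pt) :
    Units.map (PicMul.pullHom (CubeAb.tr b).left : PicF.Cl A.left →* PicF.Cl A.left) (delta hL a) = delta hL a := by
  have hsq : pc hL (CubeAb.tr (b * a)) * pc hL (𝟙 A) = pc hL (CubeAb.tr b) * pc hL (CubeAb.tr a) := by
    ext
    rw [Units.val_mul, Units.val_mul, val_pc_id]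
    exact CubeAb.square ⟨L, rfl, hL⟩ b a
  rw [delta, map_div, pull_pc, pull_pc, Category.comp_id, show CubeAb.tr b ≫ CubeAb.tr a = CubeAb.tr (b * a) from
    AVAmple.tr_tr b a, div_eq_div_iff_mul_eq_mul, hsq, mul_comm]

theorem isInvertibleCl_units {X : Scheme.{u}} {v : (PicF.Cl X)ˣ} (hv : PicF.IsInvertibleCl (v : PicF.Cl X)) :
    PicF.IsInvertibleCl ((v⁻¹ : (PicF.Cl X)ˣ) : PicF.Cl X) := by
  obtain ⟨N, hN, hNi⟩ := hv
  obtain ⟨D, hD, e⟩ := PicInv.exists_inverse hNi
  refine ⟨D, ?_, hD⟩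
  refine left_inv_eq_right_inv (a := PicF.cl N) ?_ ?_
  · rw [mul_comm]
    exact PicMul.cl_eq_iff.2 e
  · rw [hN]
    exact Units.mul_inv v

theorem isAdditive_delta_div (hL : PicF.IsInvertible L) (hM : PicF.IsInvertible M)
    (hinv : ∀ b : Pt, CubeAb.F (PicF.cl M) (CubeAb.tr b) = PicF.cl M) (a : Pt) :
    CubeAb.IsAdditive ((delta hL a / pc hM (𝟙 A) : (PicF.Cl A.left)ˣ) : PicF.Cl A.left) := by
  have inv {N : A.left.Modules} (hN : PicF.IsInvertible N) (f : A ⟶ A) :
      PicF.IsInvertibleCl (pc hN f : PicF.Cl A.left) :=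
    PicClLib.isInvertibleCl_pullCl f.left ⟨N, rfl, hN⟩
  have hd : PicF.IsInvertibleCl ((delta hL a / pc hM (𝟙 A) : (PicF.Cl A.left)ˣ) : PicF.Cl A.left) := by
    rw [delta, div_eq_mul_inv, div_eq_mul_inv, Units.val_mul, Units.val_mul]
    exact PicMul.isInvertibleCl_mul (PicMul.isInvertibleCl_mul (inv hL _) (isInvertibleCl_units (inv hL _)))
      (isInvertibleCl_units (inv hM _))
  refine CubeAb.isAdditive_of_invariant hd fun b => ?_
  rw [show CubeAb.F _ (CubeAb.tr b) = _ from F_units (CubeAb.tr b) _, map_div, delta_invariant, pull_pc,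
    Category.comp_id, show pc hM (CubeAb.tr b) = pc hM (𝟙 A) from Units.ext ((hinv b).trans (val_pc_id hM).symm)]

theorem isAdditive_delta (hL : PicF.IsInvertible L) (a : Pt) :
    CubeAb.IsAdditive ((delta hL a : (PicF.Cl A.left)ˣ) : PicF.Cl A.left) := by
  have inv (f : A ⟶ A) : PicF.IsInvertibleCl (pc hL f : PicF.Cl A.left) :=
    PicClLib.isInvertibleCl_pullCl f.left ⟨L, rfl, hL⟩
  refine CubeAb.isAdditive_of_invariant (by
    rw [delta, div_eq_mul_inv, Units.val_mul]
    exact PicMul.isInvertibleCl_mul (inv _) (isInvertibleCl_units (inv _))) fun b => ?_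
  rw [show CubeAb.F _ (CubeAb.tr b) = _ from F_units (CubeAb.tr b) _, delta_invariant]

theorem isPullback_slice₁ (a : Pt) :
    IsPullback (lift (toUnit A ≫ a) (𝟙 A)).left A.hom (fst A A).left a.left := by
  refine IsPullback.of_right (h₁₂ := (snd A A).left) (v₁₃ := A.hom) (h₂₂ := A.hom) ?_ ?_
    (IsPullback.of_hasPullback A.hom A.hom).flip
  · rw [← Over.comp_left, lift_snd, Over.id_left, Over.w]
    haveI : IsIso (𝟙_ (Over (Spec (CommRingCat.of k)))).hom := inferInstanceAs (IsIso (𝟙 _))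
    exact IsPullback.of_horiz_isIso ⟨by simp⟩
  · rw [← Over.comp_left, lift_fst, Over.comp_left, Over.toUnit_left]

theorem isPullback_slice₂ (a : Pt) :
    IsPullback (lift (𝟙 A) (toUnit A ≫ a)).left A.hom (snd A A).left a.left := by
  refine IsPullback.of_right (h₁₂ := (fst A A).left) (v₁₃ := A.hom) (h₂₂ := A.hom) ?_ ?_
    (IsPullback.of_hasPullback A.hom A.hom)
  · rw [← Over.comp_left, lift_fst, Over.id_left, Over.w]
    haveI : IsIso (𝟙_ (Over (Spec (CommRingCat.of k)))).hom := inferInstanceAs (IsIso (𝟙 _))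
    exact IsPullback.of_horiz_isIso ⟨by simp⟩
  · rw [← Over.comp_left, lift_snd, Over.comp_left, Over.toUnit_left]

/-- Mumford's theorem 8. -/
theorem exists_translate (hL : PicF.IsInvertible L) (hM : PicF.IsInvertible M)
    (hinv : ∀ b : Pt, CubeAb.F (PicF.cl M) (CubeAb.tr b) = PicF.cl M)
    (hfin : Set.Finite {a : Pt | CubeAb.F (PicF.cl L) (CubeAb.tr a) = PicF.cl L}) :
    ∃ a : Pt, CubeAb.F (PicF.cl L) (CubeAb.tr a) = PicF.cl M * PicF.cl L := by
  haveI : IsCommMonObj A := isCommMonObj_of_isProper_of_geometricallyIntegral A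
  haveI : IsIntegral A.left := GeometricallyIntegral.isIntegral_of_subsingleton A.hom
  haveI : IsLocallyNoetherian A.left := LocallyOfFiniteType.isLocallyNoetherian A.hom
  haveI : JacobsonSpace A.left := LocallyOfFiniteType.jacobsonSpace A.hom
  haveI : LocallyOfFinitePresentation A.hom := inferInstance
  haveI : HasInjectiveResolutions (A ⊗ A).left.Modules := KFlatLib.hasInjectiveResolutions_modules
  by_contra hne
  push Not at hne
  have hne' : ∀ a : Pt, delta hL a / pc hM (𝟙 A) ≠ 1 := fun a h => hne a (by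
    have h' := congrArg (fun v : (PicF.Cl A.left)ˣ => (v : PicF.Cl A.left))
      (div_eq_iff_eq_mul.1 (div_eq_one.1 h))
    rw [Units.val_mul, val_pc_id, val_pc_id] at h'
    exact h')
  let p := fst A A
  let q := snd A A
  let u : (PicF.Cl (A ⊗ A).left)ˣ := pc hL (p * q) / (pc hL p * pc hL q) / pc hM p
  obtain ⟨K, hKcl, hK⟩ : PicF.IsInvertibleCl (u : PicF.Cl (A ⊗ A).left) := by
    have inv {N : A.left.Modules} (hN : PicF.IsInvertible N) (f : A ⊗ A ⟶ A) :
        PicF.IsInvertibleCl (pc hN f : PicF.Cl (A ⊗ A).left) :=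
      PicClLib.isInvertibleCl_pullCl f.left ⟨N, rfl, hN⟩
    simp only [u, div_eq_mul_inv, mul_inv, Units.val_mul]
    repeat' apply PicMul.isInvertibleCl_mul
    all_goals first | exact inv _ _ | exact isInvertibleCl_units (inv _ _)
  have hqK : Coh.IsQCoh K := isFinLocFree_Rpush_field.PicF.w4c5_isQCoh hK
  have hfp := SeesawGen.isFP_of_isInvertible hK
  have hcl : ∀ σ : A ⟶ A ⊗ A, PicF.cl ((Scheme.Modules.pullback σ.left).obj K) =
      ((pc hL ((σ ≫ p) * (σ ≫ q)) / (pc hL (σ ≫ p) * pc hL (σ ≫ q)) / pc hM (σ ≫ p) : (PicF.Cl A.left)ˣ) :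
        PicF.Cl A.left) := fun σ => by
    show PicMul.pullHom σ.left (PicF.cl K) = _
    rw [hKcl, F_units σ u]
    simp only [u, map_div, map_mul, pull_pc, MonObj.comp_mul]
  have h1 : ∀ a : Pt, PicF.cl ((Scheme.Modules.pullback (lift (toUnit A ≫ a) (𝟙 A)).left).obj K) =
      ((delta hL a : (PicF.Cl A.left)ˣ) : PicF.Cl A.left) := fun a => by
    rw [hcl, lift_fst, lift_snd, pc_const hL, pc_const hM, div_one, _root_.one_mul,
      show (toUnit A ≫ a) * 𝟙 A = CubeAb.tr a from mul_comm _ _]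
    rfl
  have h2 : ∀ a : Pt, PicF.cl ((Scheme.Modules.pullback (lift (𝟙 A) (toUnit A ≫ a)).left).obj K) =
      ((delta hL a / pc hM (𝟙 A) : (PicF.Cl A.left)ˣ) : PicF.Cl A.left) := fun a => by
    rw [hcl, lift_fst, lift_snd, pc_const hL, _root_.mul_one]
    rfl
  have van : ∀ (σ : A ⟶ A ⊗ A) (v : (PicF.Cl A.left)ˣ),
      PicF.cl ((Scheme.Modules.pullback σ.left).obj K) = (v : PicF.Cl A.left) →
      CubeAb.IsAdditive (v : PicF.Cl A.left) → v ≠ 1 → ∀ n,
        Subsingleton (Coh.HH A.left ((Scheme.Modules.pullback σ.left).obj K) n) := fun σ v hv hadd hne1 n =>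
    subsingleton_HH_of_additive (PicClLib.isInvertible_pullback _ hK) (hv ▸ hadd)
      (fun ht => hne1 (Units.ext (hv.symm.trans ((CubeAb.cl_eq_one_iff _).2 ht)))) n
  have ha : ∀ a : Pt, a.left ≫ A.hom = 𝟙 _ := fun a => Over.w a
  -- the second projection
  haveI : IsProper q.left := inferInstanceAs (IsProper (pullback.snd A.hom A.hom))
  haveI : Flat q.left := inferInstanceAs (Flat (pullback.snd A.hom A.hom))
  haveI : IsProper p.left := inferInstanceAs (IsProper (pullback.fst A.hom A.hom))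
  haveI : Flat p.left := inferInstanceAs (Flat (pullback.fst A.hom A.hom))
  haveI : LocallyOfFinitePresentation q.left := inferInstanceAs (LocallyOfFinitePresentation (pullback.snd A.hom A.hom))
  haveI : LocallyOfFinitePresentation p.left := inferInstanceAs (LocallyOfFinitePresentation (pullback.fst A.hom A.hom))
  have hq0 : ∀ n, IsZero ((Coh.Rpush q.left n).obj K) := fun n => by
    refine CohPullLib.isZero_of_vanAt hqK n fun y => ?_
    by_contra hn
    have hopen : IsOpen {y : A.left | CohPullLib.VanAt q.left K n y} := isOpen_iff_forall_mem_open.2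
      fun _ ⟨V, hV, Q, hs, hQ, hz⟩ => ⟨V, fun t ht => ⟨V, hV, Q, ht, hQ, hz⟩, V.2, hs⟩
    obtain ⟨z, hz, hzc⟩ := nonempty_inter_closedPoints (Z := {y : A.left | CohPullLib.VanAt q.left K n y}ᶜ)
      ⟨y, hn⟩ hopen.isClosed_compl.isLocallyClosed
    obtain ⟨a, rfl⟩ := AVAmple.exists_pt (mem_closedPoints_iff.1 hzc)
    refine hz (CohPullLib.vanAt_of_subsingleton hqK hfp (Seesaw.isFlatOver_of_isInvertible _ hK) n ?_)
    exact (subsingleton_fiberH_iff q.left a.left A.hom (ha a) (isPullback_slice₂ a) K n).2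
      (van _ _ (h2 a) (isAdditive_delta_div hL hM hinv a) (hne' a) n)
  have hH : ∀ n, Subsingleton (Coh.HH (A ⊗ A).left K n) := fun n => subsingleton_HH_of_isZero_Rpush q.left hq0 n
  -- the first projection
  let T : Set A.left := (fun a : Pt => AVAmple.pt a) '' {a : Pt | CubeAb.F (PicF.cl L) (CubeAb.tr a) = PicF.cl L}
  have hT : T.Finite := hfin.image _
  have hTc : ∀ x ∈ T, IsClosed ({x} : Set A.left) := by
    rintro _ ⟨a, -, rfl⟩
    exact AVAmple.isClosed_pt a
  have hp0 : ∀ n, IsZero ((Coh.Rpush p.left n).obj K) := fun n =>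
    isZero_Rpush_of_finite_support hT hTc p.left (fun m => FlatBC6.isQCoh_Rpush p.left hqK m)
      (fun m => isZero_restrict_of_closedPoints p.left hqK hfp (Seesaw.isFlatOver_of_isInvertible _ hK) m _
        fun y hy hyc => by
          obtain ⟨a, rfl⟩ := AVAmple.exists_pt hyc
          exact (subsingleton_fiberH_iff p.left a.left A.hom (ha a) (isPullback_slice₁ a) K m).2
            (van _ _ (h1 a) (isAdditive_delta hL a) (fun h => hy ⟨a, (delta_eq_one hL a).1 h, rfl⟩) m)) hH n
  have h00 := CohPullLib.subsingleton_of_vanAt hqK (vanAt_of_isZero_Rpush p.left hqK hfp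
    (Seesaw.isFlatOver_of_isInvertible _ hK) hp0 0 ((1 : Pt).left (IsLocalRing.closedPoint k)))
  replace h00 := (subsingleton_fiberH_iff p.left (1 : Pt).left A.hom (ha 1) (isPullback_slice₁ 1) K 0).1 h00
  obtain ⟨e⟩ : Nonempty ((Scheme.Modules.pullback (lift (toUnit A ≫ (1 : Pt)) (𝟙 A)).left).obj K ≅
      Coh.structureModule A.left) := PicMul.cl_eq_iff.1 (by
    rw [h1, delta, show CubeAb.tr (1 : Pt) = 𝟙 A from AVAmple.tr_one, div_self']
    rfl)
  haveI := QCoh.subsingleton_HH_of_iso e 0 h00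
  haveI : Subsingleton Γ(Coh.structureModule A.left, ⊤) :=
    (Sheaf.H.equiv₀ (Coh.toAb (Coh.structureModule A.left)) (isTerminalTop : IsTerminal (⊤ : A.left.Opens))).symm.toEquiv.subsingleton
  haveI : Subsingleton (Γ(A.left, ⊤) : Type u) := ‹Subsingleton Γ(Coh.structureModule A.left, ⊤)›
  exact one_ne_zero (Subsingleton.elim (1 : Γ(A.left, ⊤)) 0)

end Groth.Agent.AVTheta8
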