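import Groth.Agent.AVTheta8.Classes
import Groth.Agent.H23.CubeAb
import Groth.Agent.S7805
import Groth.Agent.S0927
import Groth.Agent.RGLib.Lim8Exact
import Groth.Agent.InvX.Tensor
import Groth.Agent.SiteBase.Invertible
import Groth.Agent.KFlatLib.Perfect.LocFree

/-!
An invertible translation invariant non-trivial module on an abelian variety has no cohomology.
-/

set_option autoImplicit false
set_option linter.style.haveILetI false
set_option linter.unusedSectionVars false
set_option backward.isDefEq.respectTransparency false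
set_option backward.isDefEq.respectTransparency.types false
set_option maxHeartbeats 1000000

universe u

open CategoryTheory CategoryTheory.Limits MonoidalCategory CartesianMonoidalCategory MonObj AlgebraicGeometry TopologicalSpace Opposite

noncomputable section

namespace Groth.Agent.AVTheta8

open Groth.Agent Groth.Agent.H23 Groth.Agent.H23.TrivBasic
open scoped Groth.Agent.H23.PicMul

variable {k : Type u} [Field k] {A : Over (Spec (CommRingCat.of k))} [GrpObj A] [IsProper A.hom]
  [GeometricallyIntegral A.hom] {L : A.left.Modules}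

theorem map_tensor_ne_zero {X : Scheme.{u}} (L M : X.Modules) (ψ : CohB1.tensorMod L M ≅ Coh.structureModule X)
    (s' : Coh.structureModule X ⟶ M) (hs' : s' ≠ 0) :
    ((ModSite.tensorBi X.sheaf).obj L).map s' ≠ 0 := by
  haveI : ((ModSite.tensorBi X.sheaf).obj L).IsEquivalence :=
    SiteBase.isEquivalence_of_tensor_iso_unit (O := X.sheaf) (M := L) (N := M) ψ
  exact fun h0 => hs' (((ModSite.tensorBi X.sheaf).obj L).map_injective (h0.trans (Functor.map_zero _ _ _).symm))

theorem conj_ne_zero {C : Type*} [Category C] [Preadditive C] {P Q R W : C} (u : Q ≅ P) (v : R ≅ W) (g : Q ⟶ R)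
    (hg : g ≠ 0) : u.inv ≫ g ≫ v.hom ≠ 0 :=
  fun h0 => hg ((cancel_mono v.hom).1 (((cancel_epi u.inv).1 (h0.trans comp_zero.symm)).trans zero_comp.symm))

/-- A section of an inverse gives a cosection. -/
theorem exists_cosection {X : Scheme.{u}} (L M : X.Modules) (ψ : CohB1.tensorMod L M ≅ Coh.structureModule X)
    (s' : Coh.structureModule X ⟶ M) (hs' : s' ≠ 0) : ∃ t : L ⟶ Coh.structureModule X, t ≠ 0 := by
  obtain ⟨u⟩ : Nonempty (CohB1.tensorMod L (Coh.structureModule X) ≅ L) :=
    PicMul.cl_eq_iff.1 ((PicMul.cl_tensor L (Coh.structureModule X)).trans (_root_.mul_one _))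
  have hk := map_tensor_ne_zero L M ψ s' hs'
  exact ⟨_, @conj_ne_zero X.Modules _ _ _ _ _ _ u ψ _ hk⟩

/-- No non-zero global section. -/
theorem hom_unit_eq_zero (hL : PicF.IsInvertible L) (hadd : CubeAb.IsAdditive (PicF.cl L)) (hnt : ¬ Triv L)
    (s : Coh.structureModule A.left ⟶ L) : s = 0 := by
  haveI : IsIntegral A.left := GeometricallyIntegral.isIntegral_of_subsingleton A.hom
  by_contra hs
  let j := ((𝟙 A)⁻¹ : A ⟶ A)
  haveI : IsIso j.left := AVDegLibIso j (by show (𝟙 A)⁻¹ ≫ (𝟙 A)⁻¹ = 𝟙 A; rw [GrpObj.comp_inv, Category.comp_id, _root_.inv_inv])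
  let M := (Scheme.Modules.pullback j.left).obj L
  have h := hadd.apply (𝟙 A) j
  rw [mul_inv_cancel, CubeAb.F_one ⟨L, rfl, hL⟩, show CubeAb.F (PicF.cl L) (𝟙 A) = PicF.cl L from (by
    show PicF.pullCl (𝟙 A : A ⟶ A).left (PicF.cl L) = PicF.cl L
    rw [Over.id_left]; exact PicClLib.pullCl_id _)] at h
  obtain ⟨ψ⟩ : Nonempty (CohB1.tensorMod L M ≅ Coh.structureModule A.left) := PicMul.cl_eq_iff.1 h.symm
  haveI : (Scheme.Modules.pullback j.left).Faithful := by
    haveI := subsingleton_HH_pullback_iff.isEquivalence_pushforward' j.left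
    haveI := (Scheme.Modules.pullbackPushforwardAdjunction j.left).isEquivalence_left_of_isEquivalence_right
    infer_instance
  obtain ⟨o⟩ := PicClLib.nonempty_pullback_structureModule j.left
  let s' : Coh.structureModule A.left ⟶ M := o.inv ≫ (Scheme.Modules.pullback j.left).map s
  have hs' : s' ≠ 0 := fun h0 => hs ((Scheme.Modules.pullback j.left).map_injective (by
    rw [Functor.map_zero]
    exact (cancel_epi o.inv).1 (h0.trans comp_zero.symm)))
  obtain ⟨t, ht⟩ := exists_cosection L M ψ s' hs'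
  exact hnt ((S7805.result k A.hom L hL).2 ⟨⟨s, hs⟩, ⟨t, ht⟩⟩)
where
  AVDegLibIso {S : Scheme.{u}} {A : Over S} (j : A ⟶ A) (h : j ≫ j = 𝟙 A) : IsIso j.left :=
    ⟨_, by rw [← Over.comp_left, h, Over.id_left], by rw [← Over.comp_left, h, Over.id_left]⟩

theorem isFinLocFree_Rpush_field {X : Scheme.{u}} (g : X ⟶ Spec (CommRingCat.of k)) [IsProper g] [Flat g]
    [LocallyOfFinitePresentation g] [HasInjectiveResolutions X.Modules] {F : X.Modules} (hF : PicF.IsInvertible F)
    (p : ℕ) : FlatMod.IsFinLocFree ((Coh.Rpush g p).obj F) := by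
  have hq := PicF.w4c5_isQCoh hF
  refine CohPullLib.isFinLocFree_of_exchAt hq (SeesawGen.isFP_of_isInvertible hF)
    (Seesaw.isFlatOver_of_isInvertible g hF) (fun y => exch p y) fun y q _ => exch q y
where
  PicF.w4c5_isQCoh {X : Scheme.{u}} {F : X.Modules} (hF : PicF.IsInvertible F) : Coh.IsQCoh F :=
    QCoh.isQCoh_of_isFinLocFree (PullPush.isFinLocFree_of_isInvertible hF)
  exch (p : ℕ) (y : Spec (CommRingCat.of k)) : CohPullLib.ExchAt g F p y := by
    obtain ⟨V, hV, Q, hy, -, hQ⟩ := CohPullLib.exists_isModel_nhd (f := g) (PicF.w4c5_isQCoh hF)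
      (SeesawGen.isFP_of_isInvertible hF) (Seesaw.isFlatOver_of_isInvertible g hF)
      (show y ∈ (⊤ : (Spec (CommRingCat.of k)).Opens) from trivial)
    have hV' : V = ⊤ := top_le_iff.1 fun z _ => by
      haveI : Subsingleton ↥(Spec (CommRingCat.of k)) := inferInstanceAs (Subsingleton (PrimeSpectrum k))
      rwa [Subsingleton.elim z y]
    have hfield : IsField Γ(Spec (CommRingCat.of k), V) := by
      subst hV'
      exact MulEquiv.isField (Field.toIsField k)
        (Scheme.ΓSpecIso (CommRingCat.of k)).commRingCatIsoToRingEquiv.toMulEquiv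
    refine ⟨V, hV, Q, hy, hQ, (FlatCxLib.preservesEpi_iff hQ.flat (show -(p : ℤ) - 1 + 1 = -(p : ℤ) by lia)).2 ?_⟩
    letI := hfield.toField
    infer_instance

theorem subsingleton_sections_of_finLocFree [IsIntegral A.left] (hL : PicF.IsInvertible L)
    (hs : ∀ s : Coh.structureModule A.left ⟶ L, s = 0)
    {N : (Spec (CommRingCat.of k)).Modules} (hN : FlatMod.IsFinLocFree N) :
    ∀ s : Coh.structureModule A.left ⟶ CohB1.tensorMod L ((Scheme.Modules.pullback A.hom).obj N), s = 0 := by
  obtain ⟨U, n, hU, ⟨φ⟩⟩ := hN (IsLocalRing.closedPoint k)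
  have hU' : U = ⊤ := top_le_iff.1 fun z _ => by
    haveI : Subsingleton ↥(Spec (CommRingCat.of k)) := inferInstanceAs (Subsingleton (PrimeSpectrum k))
    rwa [Subsingleton.elim z (IsLocalRing.closedPoint k)]
  subst hU'
  intro s
  let O : Fin n → (Spec (CommRingCat.of k)).Modules := fun _ => Coh.structureModule _
  haveI : HasFiniteBiproducts (Spec (CommRingCat.of k)).Modules := HasFiniteBiproducts.of_hasFiniteProducts
  obtain ⟨ε⟩ : Nonempty (N ≅ ⨁ O) := exists_global φ
  haveI : HasFiniteBiproducts A.left.Modules := HasFiniteBiproducts.of_hasFiniteProducts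
  let G := Scheme.Modules.pullback A.hom ⋙ DCoh.tensorBi.obj L
  obtain ⟨o⟩ := PicClLib.nonempty_pullback_structureModule A.hom
  obtain ⟨u⟩ : Nonempty (CohB1.tensorMod L (Coh.structureModule A.left) ≅ L) :=
    PicMul.cl_eq_iff.1 ((PicMul.cl_tensor L (Coh.structureModule A.left)).trans (mul_one _))
  have key : ∀ i, s ≫ G.map (ε.hom ≫ biproduct.π O i) = 0 := fun i => by
    let w : G.obj (Coh.structureModule _) ≅ L := (DCoh.tensorBi.obj L).mapIso o ≪≫ u
    refine (cancel_mono w.hom).1 ?_
    exact (hs _).trans zero_comp.symm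
  have hid : s = s ≫ G.map (ε.hom ≫ (∑ i, biproduct.π O i ≫ biproduct.ι O i) ≫ ε.inv) := by
    rw [biproduct.total, Category.id_comp, Iso.hom_inv_id, CategoryTheory.Functor.map_id]
    exact (Category.comp_id s).symm
  rw [hid, Preadditive.sum_comp, Preadditive.comp_sum, Functor.map_sum, Preadditive.comp_sum]
  refine Finset.sum_eq_zero fun i _ => ?_
  rw [Category.assoc, ← Category.assoc ε.hom, Functor.map_comp, ← Category.assoc, key, zero_comp]
where
  exists_global {n : ℕ} {N : (Spec (CommRingCat.of k)).Modules}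
      (φ : N.restrict (⊤ : (Spec (CommRingCat.of k)).Opens).ι ≅ FlatMod.freeMod (↑(⊤ : (Spec (CommRingCat.of k)).Opens)) n) :
      haveI : HasFiniteBiproducts (Spec (CommRingCat.of k)).Modules := HasFiniteBiproducts.of_hasFiniteProducts
      Nonempty (N ≅ ⨁ fun _ : Fin n => Coh.structureModule (Spec (CommRingCat.of k))) := by
    haveI : HasFiniteBiproducts (Spec (CommRingCat.of k)).Modules := HasFiniteBiproducts.of_hasFiniteProducts
    let U : (Spec (CommRingCat.of k)).Opens := ⊤
    let j := (Scheme.topIso (Spec (CommRingCat.of k))).inv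
    have hj : j ≫ U.ι = 𝟙 _ := (Scheme.topIso _).inv_hom_id
    haveI := (Scheme.Modules.pullbackPushforwardAdjunction j).leftAdjoint_preservesColimits
    obtain ⟨o⟩ := PicClLib.nonempty_pullback_structureModule j
    let e' : N ≅ ∐ fun _ : Fin n => Coh.structureModule (Spec (CommRingCat.of k)) :=
      ((Scheme.Modules.pullbackId _).app N).symm ≪≫ (Scheme.Modules.pullbackCongr hj).symm.app N ≪≫
        ((Scheme.Modules.pullbackComp j U.ι).app N).symm ≪≫
        (Scheme.Modules.pullback j).mapIso (((Scheme.Modules.restrictFunctorIsoPullback U.ι).app N).symm ≪≫ φ) ≪≫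
        PreservesCoproduct.iso (Scheme.Modules.pullback j) _ ≪≫ Sigma.mapIso fun _ => o
    exact ⟨e' ≪≫ (biproduct.isoCoproduct _).symm⟩

/-- The vanishing theorem. -/
theorem subsingleton_HH_of_additive (hL : PicF.IsInvertible L) (hadd : CubeAb.IsAdditive (PicF.cl L))
    (hnt : ¬ Triv L) (i : ℕ) : Subsingleton (Coh.HH A.left L i) := by
  haveI : IsIntegral A.left := GeometricallyIntegral.isIntegral_of_subsingleton A.hom
  haveI : A.left.IsSeparated := ⟨by rw [← terminal.comp_from A.hom]; infer_instance⟩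
  haveI : IsLocallyNoetherian A.left := LocallyOfFiniteType.isLocallyNoetherian A.hom
  haveI : LocallyOfFinitePresentation A.hom := inferInstance
  haveI : HasInjectiveResolutions A.left.Modules := KFlatLib.hasInjectiveResolutions_modules
  haveI : HasInjectiveResolutions (A ⊗ A).left.Modules := KFlatLib.hasInjectiveResolutions_modules
  let p₁ : (A ⊗ A).left ⟶ A.left := (fst A A).left
  let p₂ : (A ⊗ A).left ⟶ A.left := (snd A A).left
  haveI : IsProper p₂ := inferInstanceAs (IsProper (pullback.snd A.hom A.hom))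
  haveI : Flat p₂ := inferInstanceAs (Flat (pullback.snd A.hom A.hom))
  haveI : Flat p₁ := inferInstanceAs (Flat (pullback.fst A.hom A.hom))
  have sq : IsPullback p₁ p₂ A.hom A.hom := IsPullback.of_hasPullback A.hom A.hom
  haveI : PreservesFiniteLimits (Scheme.Modules.pullback p₁) := RGLib.Lim8.preservesFiniteLimits_pullback p₁
  let μ' : A ⊗ A ⟶ A := fst A A * snd A A
  let F := (Scheme.Modules.pullback μ'.left).obj L
  have hqL : Coh.IsQCoh L := isFinLocFree_Rpush_field.PicF.w4c5_isQCoh hL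
  obtain ⟨ψ⟩ : Nonempty (F ≅ CohB1.tensorMod ((Scheme.Modules.pullback p₂).obj L) ((Scheme.Modules.pullback p₁).obj L)) :=
    PicMul.cl_eq_iff.1 ((show PicF.cl F = _ from hadd).trans (mul_comm _ _))
  obtain ⟨e₁⟩ := S0927.result p₂ ((Scheme.Modules.pullback p₁).obj L) L (PullPush.isFinLocFree_of_isInvertible hL) i
  haveI := FlatBC6.isIso_bcQ_flat sq hqL i
  let N := (Coh.Rpush A.hom i).obj L
  let eR : (Coh.Rpush p₂ i).obj F ≅ CohB1.tensorMod L ((Scheme.Modules.pullback A.hom).obj N) :=
    (Coh.Rpush p₂ i).mapIso ψ ≪≫ e₁.symm ≪≫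
      PicGrp.tensorModIso (Iso.refl L) (asIso (CohBC.bcQ A.hom A.hom p₂ p₁ sq.w i L)).symm
  have hzero := subsingleton_sections_of_finLocFree hL (hom_unit_eq_zero hL hadd hnt)
    (isFinLocFree_Rpush_field A.hom hL i)
  haveI : Subsingleton Γ((Coh.Rpush p₂ i).obj F, ⊤) := subsingleton_sections_of_hom fun s => by
    rw [← cancel_mono eR.hom, zero_comp]
    exact hzero _
  let σ : A ⟶ A ⊗ A := lift (𝟙 A) 1
  have hσμ : σ.left ≫ μ'.left = 𝟙 A.left := by
    rw [← Over.comp_left, MonObj.comp_mul, lift_fst, lift_snd, _root_.mul_one, Over.id_left]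
  let z₀ := η[A].left (IsLocalRing.closedPoint k)
  obtain ⟨_, ⟨V, hV, rfl⟩, hz, -⟩ := A.left.isBasis_affineOpens.exists_subset_of_mem_open (Set.mem_univ z₀) isOpen_univ
  have hσ : (⊤ : A.left.Opens) ≤ σ.left ⁻¹ᵁ (p₂ ⁻¹ᵁ V) := fun x _ => by
    show p₂ (σ.left x) ∈ V
    rw [← Scheme.Hom.comp_apply, ← Over.comp_left, lift_snd, Hom.one_def, Over.comp_left, Scheme.Hom.comp_apply]
    rw [Subsingleton.elim (α := PrimeSpectrum k) ((toUnit A).left x) (IsLocalRing.closedPoint k)]
    exact hz
  haveI := subsingleton_HHon_of_sections p₂ μ'.left (QCoh.isQCoh_pullback _ hqL) i σ.left hσμ ⟨V, hV⟩ hσ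
  haveI : IsIso (⊤ : A.left.Opens).ι := (Scheme.topIso A.left).isIso_hom
  haveI := hqL
  rw [← subsingleton_HH_pullback_iff (⊤ : A.left.Opens).ι L i]
  exact QCoh.subsingleton_HH_of_iso ((Scheme.Modules.restrictFunctorIsoPullback _).app L) i ‹_›
where
  subsingleton_sections_of_hom {X : Scheme.{u}} {M : X.Modules}
      (h : ∀ s : Coh.structureModule X ⟶ M, s = 0) : Subsingleton Γ(M, ⊤) := by
    refine subsingleton_of_forall_eq 0 fun s => ?_
    rw [← InvX.one_ofSect s, h (InvX.ofSect s)]
    rfl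

end Groth.Agent.AVTheta8
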