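import Groth.Agent.AVTheta8.Apply
import Groth.Agent.Lib.AVMulN
import Groth.Agent.Lib.AVProj
import Groth.Agent.S12002

/-!
Translation invariant classes on an abelian variety are algebraically equivalent to zero, and conversely
up to torsion.
-/

set_option autoImplicit false
set_option linter.style.haveILetI false
set_option linter.unusedSectionVars false
set_option backward.isDefEq.respectTransparency false
set_option backward.isDefEq.respectTransparency.types false
set_option maxHeartbeats 800000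

universe u

open CategoryTheory CategoryTheory.Limits MonoidalCategory CartesianMonoidalCategory MonObj AlgebraicGeometry TopologicalSpace

noncomputable section

namespace Groth.Agent.AVTheta8

open Groth.Agent Groth.Agent.H23 Groth.Agent.AVCube Groth.Agent.AVPair
open scoped Groth.Agent.H23.PicMul

variable {k : Type u} [Field k] [IsAlgClosed k] {A : Over (Spec (CommRingCat.of k))} [GrpObj A] [IsProper A.hom]
  [GeometricallyIntegral A.hom] {L M : A.left.Modules}

local notation "Pt" => 𝟙_ (Over (Spec (CommRingCat.of k))) ⟶ A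

theorem pt_injective : Function.Injective (fun a : Pt => AVAmple.pt a) := fun a b hab => by
  apply Over.OverMorphism.ext
  exact congrArg Subtype.val ((pointEquivClosedPoint A.hom).injective
    (a₁ := ⟨a.left, Over.w a⟩) (a₂ := ⟨b.left, Over.w b⟩) (Subtype.ext hab))

/-- The group of rational points is divisible. -/
theorem exists_pow_eq (a : Pt) (n : ℕ) (hn : 1 ≤ n) : ∃ b : Pt, b ^ n = a := by
  haveI : Surjective (𝟙 A ^ n : A ⟶ A).left := AVMulN.surjective_pow n hn
  haveI : JacobsonSpace A.left := LocallyOfFiniteType.jacobsonSpace A.hom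
  let φ := (𝟙 A ^ n : A ⟶ A)
  obtain ⟨y, hy, hyc⟩ := nonempty_inter_closedPoints (Z := φ.left ⁻¹' {AVAmple.pt a})
    (φ.left.surjective _) ((AVAmple.isClosed_pt a).preimage φ.left.continuous).isLocallyClosed
  obtain ⟨b, rfl⟩ := AVAmple.exists_pt (mem_closedPoints_iff.1 hyc)
  refine ⟨b, pt_injective ?_⟩
  show AVAmple.pt (b ^ n) = AVAmple.pt a
  rw [show b ^ n = b ≫ φ by rw [MonObj.comp_pow, Category.comp_id]]
  exact hy

/-- The translation differences are additive in the point. -/
theorem delta_mul (hL : PicF.IsInvertible L) (a b : Pt) : delta hL (a * b) = delta hL a * delta hL b := by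
  have hsq : pc hL (CubeAb.tr (a * b)) * pc hL (𝟙 A) = pc hL (CubeAb.tr a) * pc hL (CubeAb.tr b) := by
    ext
    rw [Units.val_mul, Units.val_mul, val_pc_id]
    exact CubeAb.square ⟨L, rfl, hL⟩ a b
  rw [delta, delta, delta, div_mul_div_comm, ← hsq, mul_div_mul_right_eq_div]

theorem delta_pow (hL : PicF.IsInvertible L) (a : Pt) : ∀ n : ℕ, delta hL (a ^ n) = delta hL a ^ n
  | 0 => by rw [pow_zero, pow_zero, delta, show CubeAb.tr (1 : Pt) = 𝟙 A from AVAmple.tr_one, div_self']
  | n + 1 => by rw [pow_succ, pow_succ, delta_mul, delta_pow hL a n]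

/-- A class with an invariant positive power is invariant. -/
theorem invariant_of_pow (hL : PicF.IsInvertible L) (n : ℕ) (hn : 1 ≤ n)
    (h : ∀ b : Pt, CubeAb.F (PicF.cl L ^ n) (CubeAb.tr b) = PicF.cl L ^ n) (a : Pt) :
    CubeAb.F (PicF.cl L) (CubeAb.tr a) = PicF.cl L := by
  obtain ⟨b, rfl⟩ := exists_pow_eq a n hn
  rw [← delta_eq_one hL, delta_pow, delta, div_pow, div_eq_one]
  ext
  rw [Units.val_pow_eq_pow_val, Units.val_pow_eq_pow_val, val_pc_id]
  exact (map_pow (PicMul.pullHom (CubeAb.tr b).left) _ n).symm.trans (h b)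

/-- The differences of translates are algebraically equivalent to zero. -/
theorem algEquivZero_delta (hL : PicF.IsInvertible L) (a : Pt) :
    ∃ N : A.left.Modules, PicF.cl N = ((delta hL a : (PicF.Cl A.left)ˣ) : PicF.Cl A.left) ∧
      @Pic13.IsAlgEquivZero k _ A.left ⟨A.hom⟩ N := by
  letI : A.left.Over (Spec (CommRingCat.of k)) := ⟨A.hom⟩
  haveI : IsIntegral A.left := GeometricallyIntegral.isIntegral_of_subsingleton A.hom
  let u : (PicF.Cl (A ⊗ A).left)ˣ :=
    pc hL (fst A A * snd A A) / (pc hL (fst A A) * pc hL (snd A A))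
  have inv (f : A ⊗ A ⟶ A) : PicF.IsInvertibleCl (pc hL f : PicF.Cl (A ⊗ A).left) :=
    PicClLib.isInvertibleCl_pullCl f.left ⟨L, rfl, hL⟩
  obtain ⟨P, hPcl, hP⟩ : PicF.IsInvertibleCl (u : PicF.Cl (A ⊗ A).left) := by
    simp only [u, div_eq_mul_inv, mul_inv, Units.val_mul]
    repeat' apply PicMul.isInvertibleCl_mul
    all_goals first | exact inv _ | exact isInvertibleCl_units (inv _)
  have hcl : ∀ (b : Pt), PicF.cl ((Scheme.Modules.pullback (lift (𝟙 A) (toUnit A ≫ b)).left).obj P) =
      ((delta hL b : (PicF.Cl A.left)ˣ) : PicF.Cl A.left) := fun b => by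
    show PicMul.pullHom (lift (𝟙 A) (toUnit A ≫ b)).left (PicF.cl P) = _
    rw [hPcl, F_units _ u]
    simp only [u, map_div, map_mul, pull_pc, MonObj.comp_mul, lift_fst, lift_snd, pc_const hL, _root_.mul_one]
    rfl
  have hsl : ∀ (b : Pt), Pic13.sliceAt k A.left A.hom b.left (Over.w b) = (lift (𝟙 A) (toUnit A ≫ b)).left := fun b =>
    pullback.hom_ext
      ((pullback.lift_fst _ _ _).trans (congrArg (fun f : A ⟶ A => f.left) (lift_fst (𝟙 A) (toUnit A ≫ b))).symm)
      ((pullback.lift_snd _ _ _).trans (congrArg (fun f : A ⟶ A => f.left) (lift_snd (𝟙 A) (toUnit A ≫ b))).symm)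
  refine ⟨(Scheme.Modules.pullback (lift (𝟙 A) (toUnit A ≫ a)).left).obj P, hcl a, A.left, A.hom, inferInstance,
    inferInstance, inferInstance, P, hP, a.left, (1 : Pt).left, Over.w a, Over.w (1 : Pt),
    ⟨eqToIso (congrArg (fun m => (Scheme.Modules.pullback m).obj P) (hsl a))⟩, ?_⟩
  refine PicMul.cl_eq_iff.1 ((congrArg (fun m => PicF.cl ((Scheme.Modules.pullback m).obj P)) (hsl 1)).trans ?_)
  rw [hcl, delta, show CubeAb.tr (1 : Pt) = 𝟙 A from AVAmple.tr_one, div_self']
  rfl

/-- Translation invariant modules are algebraically equivalent to zero. -/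
theorem algEquivZero_of_invariant (hM : PicF.IsInvertible M)
    (hinv : ∀ b : Pt, CubeAb.F (PicF.cl M) (CubeAb.tr b) = PicF.cl M) :
    @Pic13.IsAlgEquivZero k _ A.left ⟨A.hom⟩ M := by
  letI : A.left.Over (Spec (CommRingCat.of k)) := ⟨A.hom⟩
  obtain ⟨L, hL⟩ := AVProj.exists_isAmple (X := A)
  obtain ⟨a, ha⟩ := exists_translate hL.1 hM hinv
    ((Groth.Agent.S12002.result k A L hL).subset fun a ha => (F_tr_eq_iff a).1 ha)
  obtain ⟨N, hN, hNa⟩ := algEquivZero_delta hL.1 a
  have hd : delta hL.1 a = pc hM (𝟙 A) := by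
    rw [delta, div_eq_iff_eq_mul]
    ext
    rw [Units.val_mul, val_pc_id, val_pc_id]
    exact ha
  obtain ⟨e⟩ : Nonempty (N ≅ M) := PicMul.cl_eq_iff.1 (by rw [hN, hd, val_pc_id])
  exact AVDual.algEquivZero_of_iso e hNa

end Groth.Agent.AVTheta8
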