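import Groth.Agent.AVTheta8.Surj
import Groth.Agent.Lib.AVDecomp

/-!
Forms of Mumford's theorem 8 for modules.
-/

set_option autoImplicit false
set_option linter.style.haveILetI false
set_option linter.unusedSectionVars false
set_option backward.isDefEq.respectTransparency false
set_option backward.isDefEq.respectTransparency.types false
set_option maxHeartbeats 800000

universe u

open CategoryTheory CategoryTheory.Limits MonoidalCategory CartesianMonoidalCategory MonObj AlgebraicGeometry

noncomputable section

namespace Groth.Agent.AVTheta8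

open Groth.Agent Groth.Agent.H23 Groth.Agent.AVPair
open scoped Groth.Agent.H23.PicMul

variable {k : Type u} [Field k] [IsAlgClosed k] {A : Over (Spec (CommRingCat.of k))} [GrpObj A] [IsProper A.hom]
  [GeometricallyIntegral A.hom] {L M : A.left.Modules}

local notation "Pt" => 𝟙_ (Over (Spec (CommRingCat.of k))) ⟶ A

theorem F_tr_eq_iff (a : Pt) :
    CubeAb.F (PicF.cl L) (CubeAb.tr a) = PicF.cl L ↔
      Nonempty ((Scheme.Modules.pullback (𝟙 A * (toUnit A ≫ a)).left).obj L ≅ L) :=
  PicMul.cl_eq_iff

/-- Classes algebraically equivalent to zero are translation invariant. -/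
theorem invariant_of_algEquivZero (hM : PicF.IsInvertible M)
    (h : @Pic13.IsAlgEquivZero k _ A.left ⟨A.hom⟩ M) (b : Pt) :
    CubeAb.F (PicF.cl M) (CubeAb.tr b) = PicF.cl M := by
  show pl (𝟙 A * (toUnit A ≫ b)) (PicF.cl M) = PicF.cl M
  rw [AVDecomp.additive hM h, pl_id, pl_const ⟨M, rfl, hM⟩, _root_.mul_one]

/-- A non-degenerate module reaches every translation invariant module. -/
theorem exists_translate_iso (hL : PicF.IsInvertible L) (hM : PicF.IsInvertible M)
    (hinv : ∀ b : Pt, Nonempty ((Scheme.Modules.pullback (𝟙 A * (toUnit A ≫ b)).left).obj M ≅ M))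
    (hfin : Set.Finite {a : Pt | Nonempty ((Scheme.Modules.pullback (𝟙 A * (toUnit A ≫ a)).left).obj L ≅ L)}) :
    ∃ a : Pt, PicF.cl ((Scheme.Modules.pullback (𝟙 A * (toUnit A ≫ a)).left).obj L) = PicF.cl M * PicF.cl L :=
  exists_translate hL hM (fun b => (F_tr_eq_iff b).2 (hinv b))
    (hfin.subset fun a ha => (F_tr_eq_iff a).1 ha)

end Groth.Agent.AVTheta8
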