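import Groth.Agent.AVTheta8.Degen

/-!
The transpose of a surjective homomorphism has finite kernel.
-/

set_option autoImplicit false
set_option linter.style.haveILetI false
set_option linter.unusedSectionVars false
set_option backward.isDefEq.respectTransparency false
set_option backward.isDefEq.respectTransparency.types false
set_option maxHeartbeats 1000000

universe u

open CategoryTheory CategoryTheory.Limits MonoidalCategory CartesianMonoidalCategory MonObj AlgebraicGeometry TopologicalSpace

noncomputable section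

namespace Groth.Agent.AVTheta8

open Groth.Agent Groth.Agent.H23 Groth.Agent.H23.TrivBasic Groth.Agent.AVCube Groth.Agent.AVPair Groth.Agent.InvX
open scoped Groth.Agent.H23.PicMul

variable {k : Type u} [Field k] [IsAlgClosed k]
variable {B C : Over (Spec (CommRingCat.of k))} [GrpObj B] [IsProper B.hom] [GrpObj C] [IsProper C.hom]
  [GeometricallyIntegral C.hom]

/-- A homomorphism along which an ample module becomes additive is trivial. -/
theorem comp_eq_one_of_additive (g : C ⟶ B) [IsMonHom g] [GeometricallyIntegral B.hom] {H : B.left.Modules}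
    (hH : CohB1.IsAmple H) (hadd : CubeAb.IsAdditive (pl g (PicF.cl H)))
    (y : 𝟙_ (Over (Spec (CommRingCat.of k))) ⟶ C) : y ≫ g = 1 := by
  haveI : IsIntegral C.left := GeometricallyIntegral.isIntegral_of_subsingleton C.hom
  haveI : IsProper g.left := by
    haveI : IsProper (g.left ≫ B.hom) := by rw [Over.w]; infer_instance
    exact IsProper.of_comp g.left B.hom
  let c₀ := η[C].left (IsLocalRing.closedPoint k)
  obtain ⟨n, s, hs, hU⟩ := hH.2.2 (g.left c₀)
  let t := one s
  have hloc : locus t = CohB1.genLocus _ s := by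
    show CohB1.genLocus _ (ofSect (one s)) = _
    rw [AVAmple.ofSect_one]
  have hP : PicF.IsInvertible (CohB1.tensorPow H (n + 1)) := PicMul.isInvertible_tensorPow hH.1 _
  let M := (Scheme.Modules.pullback g.left).obj (CohB1.tensorPow H (n + 1))
  have hM : PicF.IsInvertible M := PicClLib.isInvertible_pullback _ hP
  have hMcl : PicF.cl M = pl g (PicF.cl H) ^ (n + 1) := by
    show pl g (PicF.cl (CohB1.tensorPow H (n + 1))) = _
    rw [PicMul.cl_tensorPow, map_pow]
  have haddM : CubeAb.IsAdditive (PicF.cl M) := by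
    show pl (fst C C * snd C C) (PicF.cl M) = pl (fst C C) (PicF.cl M) * pl (snd C C) (PicF.cl M)
    rw [hMcl, map_pow, map_pow, map_pow, ← mul_pow]
    exact congrArg (· ^ (n + 1)) hadd
  let t' : Γ(M, ⊤) := pullElt g.left t
  have hloc' : locus t' = g.left ⁻¹ᵁ locus t := locus_pullElt hP g.left t
  have hc₀ : c₀ ∈ locus t' := by
    rw [hloc']
    show g.left c₀ ∈ locus t
    rw [hloc]
    exact hs
  have hT : Triv M := by
    by_contra hnt
    have h0 := hom_unit_eq_zero hM haddM hnt (ofSect t')
    have ht0 : t' = 0 := by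
      rw [← one_ofSect t', h0]
      rfl
    exact AVProj.ne_zero_of_mem_locus hc₀ ht0
  have hall : ∀ c, g.left c ∈ locus t := fun c => by
    have h := AVAmple.mem_locus_of_triv C.hom (𝟙 C.left) hM
      ((CubeAb.cl_eq_one_iff _).1 ((PicClLib.pullCl_id (PicF.cl M)).trans ((CubeAb.cl_eq_one_iff _).2 hT))) t'
      (c := c₀) hc₀ c
    rw [hloc'] at h
    exact h
  have hcl : IsClosed (Set.range g.left) := g.left.isClosedMap.isClosed_range
  obtain ⟨D, i, hi, hred, hrange⟩ := RedSub.exists_reduced_subscheme B.left hcl.isLocallyClosed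
  haveI : IsClosedImmersion i := .of_isPreimmersion i (by rw [hrange]; exact hcl)
  haveI : Finite D := AVProj.finite_of_range_subset_affine B.hom i (U := locus t) (hloc ▸ hU) (by
    rw [hrange]
    rintro _ ⟨c, rfl⟩
    exact hall c)
  haveI : JacobsonSpace B.left := LocallyOfFiniteType.jacobsonSpace B.hom
  haveI : JacobsonSpace D := .of_isClosedEmbedding i.isClosedEmbedding
  haveI := JacobsonSpace.discreteTopology (Set.toFinite (closedPoints D))
  haveI : IrreducibleSpace D := by
    have hirr : IsIrreducible (Set.range i) := by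
      rw [hrange, ← Set.image_univ]
      exact (IrreducibleSpace.isIrreducible_univ C.left).image _ g.left.continuous.continuousOn
    haveI := Subtype.irreducibleSpace hirr
    exact (i.isEmbedding.toHomeomorph).irreducibleSpace_iff.2 inferInstance
  haveI : Subsingleton D := ⟨fun a b => by
    obtain ⟨z, hza, hzb⟩ := nonempty_preirreducible_inter (isOpen_discrete ({a} : Set D))
      (isOpen_discrete ({b} : Set D)) ⟨a, rfl⟩ ⟨b, rfl⟩
    exact hza.symm.trans hzb⟩
  refine pt_injective ?_
  have h1 : ∀ z : 𝟙_ (Over (Spec (CommRingCat.of k))) ⟶ C, AVAmple.pt (z ≫ g) ∈ Set.range i := fun z => by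
    rw [hrange]
    exact ⟨_, rfl⟩
  obtain ⟨a, ha⟩ := h1 y
  obtain ⟨b, hb⟩ := h1 1
  rw [MonObj.one_comp] at hb
  show AVAmple.pt (y ≫ g) = AVAmple.pt (1 : 𝟙_ _ ⟶ B)
  rw [← ha, ← hb, Subsingleton.elim a b]

variable {A : Over (Spec (CommRingCat.of k))} [GrpObj A] [IsProper A.hom] [GeometricallyIntegral A.hom]

/-- Classes algebraically equivalent to zero killed by a surjective homomorphism form a finite set. -/
theorem finite_kernel [GeometricallyIntegral B.hom] (α : A ⟶ B) [IsMonHom α] [Surjective α.left] :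
    Set.Finite {c : PicF.Cl B.left | ∃ M : B.left.Modules, PicF.cl M = c ∧ PicF.IsInvertible M ∧
      @Pic13.IsAlgEquivZero k _ B.left ⟨B.hom⟩ M ∧
      Nonempty ((Scheme.Modules.pullback α.left).obj M ≅ Coh.structureModule A.left)} := by
  classical
  haveI : JacobsonSpace A.left := LocallyOfFiniteType.jacobsonSpace A.hom
  obtain ⟨H, hH⟩ := AVProj.exists_isAmple (X := B)
  have hαH := PicClLib.isInvertible_pullback α.left hH.1
  obtain ⟨S, hS, hSs⟩ := exists_closed_stab hαH
  obtain ⟨Z, iZ, i, hi, hic, hrange⟩ := exists_redGroup (stab hαH) hS hSs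
  obtain ⟨C, iC, hCp, hCg, j, hj, c, hjc, hcj, F, hF⟩ := AVSubLib.exists_component A Z i
  have hjs : ∀ y, y ≫ j ∈ stab hαH := fun y => (hSs _).1 (by
    rw [← hrange, ← hcj, ← Category.assoc]
    exact ⟨_, rfl⟩)
  have hadd : CubeAb.IsAdditive (pl (j ≫ α) (PicF.cl H)) := by
    rw [← pl_pl j α]
    exact isAdditive_restrict j hαH hjs
  have h1 := comp_eq_one_of_additive (j ≫ α) hH hadd
  refine ((F.image fun f => f ≫ α).finite_toSet.image fun b => ((delta hH.1 b : (PicF.Cl B.left)ˣ) : PicF.Cl B.left)).subset ?_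
  rintro c' ⟨M, rfl, hM, hMa, hMt⟩
  obtain ⟨b, hb⟩ := exists_translate hH.1 hM (invariant_of_algEquivZero hM hMa)
    ((Groth.Agent.S12002.result k B H hH).subset fun a ha => (F_tr_eq_iff a).1 ha)
  have hd : delta hH.1 b = pc hM (𝟙 B) := by
    rw [delta, div_eq_iff_eq_mul]
    ext
    rw [Units.val_mul, val_pc_id, val_pc_id]
    exact hb
  obtain ⟨x, hx, hxc⟩ := nonempty_inter_closedPoints (Z := α.left ⁻¹' {AVAmple.pt b})
    (α.left.surjective _) ((AVAmple.isClosed_pt b).preimage α.left.continuous).isLocallyClosed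
  obtain ⟨a, rfl⟩ := AVAmple.exists_pt (mem_closedPoints_iff.1 hxc)
  obtain rfl : a ≫ α = b := pt_injective hx
  have ha : a ∈ stab hαH := by
    show delta hαH a = 1
    rw [delta_pullback α hH.1 a, hd]
    refine Units.ext ?_
    rw [← F_units α, val_pc_id]
    exact (CubeAb.cl_eq_one_iff _).2 hMt
  have hp : AVAmple.pt a ∈ Set.range i.left := by
    rw [hrange]
    exact (hSs a).2 ha
  obtain ⟨z, hz⟩ := hp
  haveI : LocallyOfFiniteType Z.hom := by rw [← Over.w i]; infer_instance
  have hzc : IsClosed ({z} : Set Z.left) := by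
    have h := (AVAmple.isClosed_pt a).preimage i.left.continuous
    rw [← hz] at h
    convert h using 1
    exact (Set.preimage_image_eq {z} i.left.isEmbedding.injective).symm.trans (by rw [Set.image_singleton])
  obtain ⟨w, rfl⟩ := AVSubLib.exists_pt hzc
  obtain ⟨f, hf, y, hy⟩ := hF w
  have hay : a ≫ α = f ≫ α := by
    rw [← pt_injective (a₁ := w ≫ i) (a₂ := a) hz, hy, MonObj.mul_comp, Category.assoc, h1, _root_.mul_one]
  refine ⟨a ≫ α, ?_, ?_⟩
  · rw [Finset.coe_image]
    exact ⟨f, hf, hay.symm⟩
  · show ((delta hH.1 (a ≫ α) : (PicF.Cl B.left)ˣ) : PicF.Cl B.left) = PicF.cl M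
    rw [hd, val_pc_id]

end Groth.Agent.AVTheta8
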