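import Groth.Agent.AVTheta8.AlgEq
import Groth.Agent.AVSubLib.Component
import Groth.Agent.GrpSchLib.RedSubgroup
import Groth.Agent.S12002

/-!
A degenerate module is invariant under a nontrivial abelian subvariety.
-/

set_option autoImplicit false
set_option linter.style.haveILetI false
set_option linter.unusedSectionVars false
set_option backward.isDefEq.respectTransparency false
set_option backward.isDefEq.respectTransparency.types false
set_option maxHeartbeats 1000000

universe u

open CategoryTheory CategoryTheory.Limits MonoidalCategory CartesianMonoidalCategory MonObj AlgebraicGeometry TopologicalSpace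

noncomputable section

namespace Groth.Agent.AVTheta8

open Groth.Agent Groth.Agent.H23 Groth.Agent.H23.TrivBasic Groth.Agent.AVCube Groth.Agent.AVPair
open scoped Groth.Agent.H23.PicMul

variable {k : Type u} [Field k] [IsAlgClosed k] {A : Over (Spec (CommRingCat.of k))} [GrpObj A] [IsProper A.hom]
  [GeometricallyIntegral A.hom] {L : A.left.Modules}

local notation "Pt" => 𝟙_ (Over (Spec (CommRingCat.of k))) ⟶ A

/-- A closed set of rational points which form a subgroup carries a reduced closed subgroup scheme. -/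
theorem exists_redGroup (H : Subgroup Pt) {S : Set A.left} (hS : IsClosed S)
    (hH : ∀ a : Pt, AVAmple.pt a ∈ S ↔ a ∈ H) :
    ∃ (Z : Over (Spec (CommRingCat.of k))) (_ : GrpObj Z) (i : Z ⟶ A) (_ : IsMonHom i),
      IsClosedImmersion i.left ∧ Set.range i.left = S := by
  obtain ⟨W, j, hj, hred, hrange⟩ := RedSub.exists_reduced_subscheme A.left hS.isLocallyClosed
  haveI : IsClosedImmersion j := .of_isPreimmersion j (by rw [hrange]; exact hS)
  let Z : Over (Spec (CommRingCat.of k)) := Over.mk (j ≫ A.hom)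
  let i : Z ⟶ A := Over.homMk j rfl
  haveI : IsReduced Z.left := hred
  haveI : LocallyOfFiniteType Z.hom := inferInstanceAs (LocallyOfFiniteType (j ≫ A.hom))
  haveI : IsClosedImmersion i.left := inferInstanceAs (IsClosedImmersion j)
  haveI : Mono i.left := inferInstance
  haveI : Mono i := (Over.forget _).mono_of_mono_map (inferInstanceAs (Mono i.left))
  haveI : IsReduced (𝟙_ (Over (Spec (CommRingCat.of k)))).left := inferInstanceAs (IsReduced (Spec (CommRingCat.of k)))
  haveI : LocallyOfFiniteType (𝟙_ (Over (Spec (CommRingCat.of k)))).hom :=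
    inferInstanceAs (LocallyOfFiniteType (𝟙 (Spec (CommRingCat.of k))))
  haveI : IsReduced (Z ⊗ Z).left := GrpSchLib.isReduced_pullback_of_perfectField Z.hom Z.hom
  haveI : LocallyOfFiniteType (Z ⊗ Z).hom :=
    inferInstanceAs (LocallyOfFiniteType (pullback.fst Z.hom Z.hom ≫ Z.hom))
  have hl : ∀ (T : Over (Spec (CommRingCat.of k))), IsReduced T.left → LocallyOfFiniteType T.hom → ∀ f : T ⟶ A,
      (∀ t : 𝟙_ (Over (Spec (CommRingCat.of k))) ⟶ T, t ≫ f ∈ H) → ∃ g : T ⟶ Z, g ≫ i = f := by
    intro T _ _ f hf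
    haveI : JacobsonSpace T.left := LocallyOfFiniteType.jacobsonSpace T.hom
    have hsub : Set.range f.left ⊆ Set.range j := by
      rw [hrange]
      rintro _ ⟨x, rfl⟩
      by_contra hx
      obtain ⟨y, hy, hyc⟩ := nonempty_inter_closedPoints (Z := f.left ⁻¹' Sᶜ) ⟨x, hx⟩
        (hS.isOpen_compl.preimage f.left.continuous).isLocallyClosed
      obtain ⟨t, rfl⟩ := AVSubLib.exists_pt (X := T) (mem_closedPoints_iff.1 hyc)
      exact hy ((hH (t ≫ f)).2 (hf t))
    obtain ⟨g, hg⟩ := RedSub.exists_lift_closed f.left j hsub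
    exact ⟨Over.homMk g (by show g ≫ j ≫ A.hom = _; rw [reassoc_of% hg, Over.w f]), Over.OverMorphism.ext hg⟩
  have hmem : ∀ z : 𝟙_ (Over (Spec (CommRingCat.of k))) ⟶ Z, z ≫ i ∈ H := fun z =>
    (hH _).1 (hrange ▸ ⟨_, rfl⟩)
  obtain ⟨e, he⟩ := hl (𝟙_ (Over (Spec (CommRingCat.of k)))) inferInstance inferInstance η[A] fun t => by
    rw [toUnit_unique t (𝟙 _), Category.id_comp, show η[A] = (1 : Pt) by rw [MonObj.one_eq_one]]
    exact one_mem H
  obtain ⟨m, hm⟩ := hl _ inferInstance inferInstance ((fst Z Z ≫ i) * (snd Z Z ≫ i)) fun t => by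
    rw [MonObj.comp_mul, ← Category.assoc, ← Category.assoc]
    exact mul_mem (hmem _) (hmem _)
  obtain ⟨v, hv⟩ := hl Z inferInstance inferInstance i⁻¹ fun t => by
    rw [GrpObj.comp_inv]
    exact inv_mem (hmem t)
  obtain ⟨str, hi⟩ := GrpSchLib.exists_grpObj_of_mono i e he m hm v hv
  exact ⟨Z, str, i, hi, inferInstance, hrange⟩

/-- The stabiliser of a class. -/
def stab (hL : PicF.IsInvertible L) : Subgroup Pt where
  carrier := {a | delta hL a = 1}
  one_mem' := by
    rw [Set.mem_setOf_eq, delta_eq_one, show CubeAb.tr (1 : Pt) = 𝟙 A from AVAmple.tr_one]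
    exact PicClLib.pullCl_id (PicF.cl L)
  mul_mem' {a b} ha hb := by
    rw [Set.mem_setOf_eq] at *
    rw [delta_mul, ha, hb, _root_.mul_one]
  inv_mem' {a} ha := by
    rw [Set.mem_setOf_eq] at *
    have h := delta_mul hL a a⁻¹
    rw [ha, _root_.one_mul, mul_inv_cancel, delta, show CubeAb.tr (1 : Pt) = 𝟙 A from AVAmple.tr_one, div_self'] at h
    exact h.symm

theorem mem_stab (hL : PicF.IsInvertible L) (a : Pt) :
    a ∈ stab hL ↔ Nonempty ((Scheme.Modules.pullback (𝟙 A * (toUnit A ≫ a)).left).obj L ≅ L) :=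
  (delta_eq_one hL a).trans (F_tr_eq_iff a)

/-- The stabiliser is the set of rational points of a closed set. -/
theorem exists_closed_stab (hL : PicF.IsInvertible L) :
    ∃ S : Set A.left, IsClosed S ∧ ∀ a : Pt, AVAmple.pt a ∈ S ↔ a ∈ stab hL := by
  haveI : IsLocallyNoetherian A.left := LocallyOfFiniteType.isLocallyNoetherian A.hom
  let u : (PicF.Cl (A ⊗ A).left)ˣ :=
    pc hL (fst A A * snd A A) / (pc hL (fst A A) * pc hL (snd A A))
  have inv (f : A ⊗ A ⟶ A) : PicF.IsInvertibleCl (pc hL f : PicF.Cl (A ⊗ A).left) :=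
    PicClLib.isInvertibleCl_pullCl f.left ⟨L, rfl, hL⟩
  obtain ⟨M, hMcl, hM⟩ : PicF.IsInvertibleCl (u : PicF.Cl (A ⊗ A).left) := by
    simp only [u, div_eq_mul_inv, mul_inv, Units.val_mul]
    repeat' apply PicMul.isInvertibleCl_mul
    all_goals first | exact inv _ | exact isInvertibleCl_units (inv _)
  have hcl : ∀ (b : Pt), PicF.cl ((Scheme.Modules.pullback (lift (𝟙 A) (toUnit A ≫ b)).left).obj M) =
      ((delta hL b : (PicF.Cl A.left)ˣ) : PicF.Cl A.left) := fun b => by
    show PicMul.pullHom (lift (𝟙 A) (toUnit A ≫ b)).left (PicF.cl M) = _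
    rw [hMcl, F_units _ u]
    simp only [u, map_div, map_mul, pull_pc, MonObj.comp_mul, lift_fst, lift_snd, pc_const hL, _root_.mul_one]
    rfl
  let f := (snd A A).left
  haveI : IsProper f := inferInstanceAs (IsProper (pullback.snd A.hom A.hom))
  haveI : Flat f := inferInstanceAs (Flat (pullback.snd A.hom A.hom))
  haveI : GeometricallyIntegral f := inferInstanceAs (GeometricallyIntegral (pullback.snd A.hom A.hom))
  refine ⟨{w | SeesawGlobal.FieldTriv f M w}, SeesawGlobal.isClosed_fieldTriv f hM, fun a => ⟨fun ha => ?_, fun ha => ?_⟩⟩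
  · have ht : Triv ((Scheme.Modules.pullback (lift (𝟙 A) (toUnit A ≫ a)).left).obj M) := by
      refine SeesawGlobal.triv_of_factor
        (pullback.lift (lift (𝟙 A) (toUnit A ≫ a)).left A.hom ?_ : A.left ⟶ pullback f a.left) ?_ (ha k a.left rfl)
      · show _ ≫ (snd A A).left = _
        rw [← Over.comp_left, lift_snd, Over.comp_left]
        rfl
      · rw [pullback.lift_fst]
    show delta hL a = 1
    exact Units.ext ((hcl a).symm.trans ((CubeAb.cl_eq_one_iff _).2 ht))
  · exact CubeAb.fieldTriv_of_rational hM a ((CubeAb.cl_eq_one_iff _).1 (by rw [hcl, show delta hL a = 1 from ha]; rfl))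

/-- A degenerate module is invariant under an abelian subvariety with infinitely many points. -/
theorem exists_subvariety_stab (hL : PicF.IsInvertible L)
    (hdeg : Set.Infinite {a : Pt | Nonempty ((Scheme.Modules.pullback (𝟙 A * (toUnit A ≫ a)).left).obj L ≅ L)}) :
    ∃ (C : Over (Spec (CommRingCat.of k))) (_ : GrpObj C) (_ : IsProper C.hom) (_ : GeometricallyIntegral C.hom)
      (j : C ⟶ A) (_ : IsMonHom j), IsClosedImmersion j.left ∧
      Infinite (𝟙_ (Over (Spec (CommRingCat.of k))) ⟶ C) ∧ ∀ y, y ≫ j ∈ stab hL := by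
  obtain ⟨S, hS, hSs⟩ := exists_closed_stab hL
  obtain ⟨Z, iZ, i, hi, hic, hrange⟩ := exists_redGroup (stab hL) hS hSs
  obtain ⟨C, iC, hCp, hCg, j, hj, c, hjc, hcj, F, hF⟩ := AVSubLib.exists_component A Z i
  refine ⟨C, iC, hCp, hCg, j, hj, hjc, ?_, fun y => (hSs _).1 ?_⟩
  · by_contra hfin
    rw [not_infinite_iff_finite] at hfin
    refine hdeg (((F.finite_toSet.prod (Set.finite_univ (α := 𝟙_ (Over (Spec (CommRingCat.of k))) ⟶ C))).image
      fun p => p.1 * (p.2 ≫ j)).subset fun a ha => ?_)
    have hp : AVAmple.pt a ∈ Set.range i.left := by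
      rw [hrange]
      exact (hSs a).2 ((mem_stab hL a).2 ha)
    obtain ⟨z, hz⟩ := hp
    haveI : LocallyOfFiniteType Z.hom := by rw [← Over.w i]; infer_instance
    have hzc : IsClosed ({z} : Set Z.left) := by
      have h := (AVAmple.isClosed_pt a).preimage i.left.continuous
      rw [← hz] at h
      convert h using 1
      exact (Set.preimage_image_eq {z} i.left.isEmbedding.injective).symm.trans (by rw [Set.image_singleton])
    obtain ⟨x, rfl⟩ := AVSubLib.exists_pt hzc
    obtain ⟨f, hf, y, hy⟩ := hF x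
    exact ⟨(f, y), ⟨hf, Set.mem_univ _⟩, (show f * (y ≫ j) = a from hy.symm.trans (pt_injective hz))⟩
  · rw [← hrange, ← hcj, ← Category.assoc]
    exact ⟨_, rfl⟩

end Groth.Agent.AVTheta8
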