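import Groth.Agent.FlatBC6.TwistRes
import Groth.Agent.FlatBC6.Main
import Groth.Agent.CohPullLib.ResTrans
import Groth.Agent.AModX.Res
import Groth.Agent.AVTheta8.Fibre

/-!
Classes on the total space kill on fibres when the direct image has no global section.
-/

set_option autoImplicit false
set_option linter.style.haveILetI false
set_option linter.unusedSectionVars false
set_option backward.isDefEq.respectTransparency false
set_option backward.isDefEq.respectTransparency.types false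
set_option maxRecDepth 4000
set_option maxHeartbeats 1000000

universe u

open CategoryTheory CategoryTheory.Limits AlgebraicGeometry TopologicalSpace Opposite

noncomputable section

namespace Groth.Agent.AVTheta8

open Groth.Agent Groth.Agent.CohPullLib Groth.Agent.FlatBC6 Groth.Agent.QCoh

theorem resLE_refl {X : Scheme.{u}} [HasInjectiveResolutions X.Modules] {U : X.Opens} (p : ℕ) :
    ∀ (F : X.Modules) (x : Coh.HHon X F U p), CohPull.resLE F (le_refl U) p x = x := by
  induction p with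
  | zero =>
    intro F x
    obtain ⟨s, rfl⟩ := (CohPull.sectH0 F U).surjective x
    rw [resLE_sectH0]
    exact congrArg _ (QCoh.map_id' _ _)
  | succ p ih =>
    intro F x
    obtain ⟨Q, C, a, b, w, hQ, hS⟩ := exists_injSES F
    let S := ShortComplex.mk a b w
    haveI : Injective S.X₂ := hQ
    obtain ⟨y, rfl⟩ := extδ_surjective (toAbOn_shortExact (S := S) hS U) p x
    rw [resLE_delta S (le_refl U) _ (toAbOn_shortExact hS U), ih]

theorem eq_zero_of_pullOn_id {X : Scheme.{u}} [HasInjectiveResolutions X.Modules] {U : X.Opens}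
    (g : X ⟶ X) (hg : g = 𝟙 X) (h : U ≤ g ⁻¹ᵁ U) (F : X.Modules) (p : ℕ) (x : Coh.HHon X F U p)
    (hx : CohPull.pullOn g U U h F p x = 0) : x = 0 := by
  subst hg
  rw [← resLE_refl p F x]
  show CohPull.mapH _ p (CohPull.pullOn (𝟙 X) U U _ F p x) = 0
  rw [hx, map_zero]

variable {P S : Scheme.{u}} (f : P ⟶ S) [HasInjectiveResolutions P.Modules] [QuasiCompact f] [QuasiSeparated f]

/-- The identification of sections with cohomology over affines respects restriction. -/
theorem exists_eV_family {F : P.Modules} (hF : Coh.IsQCoh F) (k : ℕ) :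
    ∃ e : ∀ V : S.affineOpens, Γ((Coh.Rpush f k).obj F, V.1) ≃+ Coh.HHon P F (f ⁻¹ᵁ V.1) k,
      ∀ (V V' : S.affineOpens) (h : V'.1 ≤ V.1) (s : Γ((Coh.Rpush f k).obj F, V.1)),
        e V' (AModX.res _ h s) = CohPull.resLE F (f.preimage_mono h) k (e V s) := by
  have hex : ∀ V : S.affineOpens, ∃ e : Γ((Coh.Rpush f k).obj F, V.1) ≃+ Coh.HHon P F (f ⁻¹ᵁ V.1) k,
      ∀ z, e ((rcl F f k).app V.1 z) = theta f F V.1 k z := fun V => by
    letI := modHH (Coh.toGlobal (secπ f V.2 (le_refl (f ⁻¹ᵁ V.1)))) (F.restrict (f ⁻¹ᵁ V.1).ι) k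
    obtain ⟨e, he⟩ := exists_eV f hF V.2 k
    exact ⟨e.toAddEquiv, he⟩
  choose e he using hex
  refine ⟨e, fun V V' h s => ?_⟩
  obtain ⟨z, rfl⟩ := (app_rcl_spec f hF V.2 k).1 s
  rw [show AModX.res _ h ((rcl F f k).app V.1 z) = (rcl F f k).app V'.1 (AModX.res _ h z) from
    (AModX.app_res (rcl F f k) h z).symm, he, he, resLE_eq_pab]
  have hm : resMap F (f.preimage_mono h) = etaAb _ (resHom F (f.preimage_mono h)) := by
    unfold resMap resHom etaAb
    rw [Functor.map_comp, pullOnMap_eq_etaAb]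
    rfl
  rw [hm]
  exact (pab_res_theta f F h k z).symm

variable {X : Scheme.{u}} [HasInjectiveResolutions X.Modules]

/-- If the direct image has no section then classes pulled back vanish after any pullback factoring through an
affine piece. -/
theorem subsingleton_HHon_of_sections [S.IsSeparated] (μ : P ⟶ X) {L : X.Modules}
    (hF : Coh.IsQCoh ((Scheme.Modules.pullback μ).obj L)) (i : ℕ)
    [Subsingleton Γ((Coh.Rpush f i).obj ((Scheme.Modules.pullback μ).obj L), ⊤)]
    (σ : X ⟶ P) (hσμ : σ ≫ μ = 𝟙 X) (V₀ : S.affineOpens) (hσ : (⊤ : X.Opens) ≤ σ ⁻¹ᵁ (f ⁻¹ᵁ V₀.1)) :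
    Subsingleton (Coh.HHon X L ⊤ i) := by
  let F := (Scheme.Modules.pullback μ).obj L
  obtain ⟨e, he⟩ := exists_eV_family f hF i
  refine subsingleton_of_forall_eq 0 fun a => ?_
  let b : ∀ V : S.affineOpens, Coh.HHon P F (f ⁻¹ᵁ V.1) i := fun V =>
    CohPull.pullOn μ ⊤ (f ⁻¹ᵁ V.1) (by intro x _; trivial) L i a
  have hb : ∀ (V V' : S.affineOpens) (h : V'.1 ≤ V.1),
      CohPull.resLE F (f.preimage_mono h) i (b V) = b V' := fun V V' h => resLE_pullOn μ L ⊤ _ _ i a
  obtain ⟨s, hs, -⟩ := AModX.existsUnique_glue (M := (Coh.Rpush f i).obj F) (V := ⊤)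
    (fun V : S.affineOpens => V.1) (fun _ => le_top)
    (fun x _ => by
      obtain ⟨_, ⟨V, hV, rfl⟩, hx, -⟩ := S.isBasis_affineOpens.exists_subset_of_mem_open (Set.mem_univ x) isOpen_univ
      exact ⟨⟨V, hV⟩, hx⟩)
    (fun V => (e V).symm (b V)) (fun V V' => by
      let W : S.affineOpens := ⟨V.1 ⊓ V'.1, V.2.inf V'.2⟩
      have h₁ : W.1 ≤ V.1 := inf_le_left
      have h₂ : W.1 ≤ V'.1 := inf_le_right
      refine (e W).injective ?_
      show e W (AModX.res _ h₁ _) = e W (AModX.res _ h₂ _)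
      rw [he V W h₁, he V' W h₂, AddEquiv.apply_symm_apply, AddEquiv.apply_symm_apply, hb V W h₁, hb V' W h₂])
  have h0 : b V₀ = 0 := by
    rw [← (e V₀).apply_symm_apply (b V₀), ← hs V₀, Subsingleton.elim s 0, map_zero, map_zero]
  have h1 := mapH_pullOn_pullOn σ μ L ⊤ (f ⁻¹ᵁ V₀.1) ⊤ (by intro x _; trivial) hσ (by intro x _; trivial) i a
  have h0' : CohPull.pullOn μ ⊤ (f ⁻¹ᵁ V₀.1) (by intro x _; trivial) L i a = 0 := h0
  rw [h0', map_zero, map_zero] at h1
  exact eq_zero_of_pullOn_id (σ ≫ μ) hσμ _ L i a h1.symm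

end Groth.Agent.AVTheta8
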