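import Groth.Agent.AVTheta8.Degen
import Groth.Agent.Lib.AVAmple

/-!
On a simple abelian variety effective nontrivial invertible modules are ample.
-/

set_option autoImplicit false
set_option linter.style.haveILetI false
set_option linter.unusedSectionVars false
set_option backward.isDefEq.respectTransparency false
set_option backward.isDefEq.respectTransparency.types false
set_option maxHeartbeats 1000000

universe u

open CategoryTheory CategoryTheory.Limits MonoidalCategory CartesianMonoidalCategory MonObj AlgebraicGeometry TopologicalSpace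

noncomputable section

namespace Groth.Agent.AVTheta8

open Groth.Agent Groth.Agent.H23 Groth.Agent.H23.TrivBasic Groth.Agent.AVPair
open scoped Groth.Agent.H23.PicMul

variable {k : Type u} [Field k] [IsAlgClosed k] {X : Over (Spec (CommRingCat.of k))} [GrpObj X] [IsProper X.hom]
  [GeometricallyIntegral X.hom]

theorem isAmple_of_simple
    (hsimple : ∀ (B : Over (Spec (CommRingCat.of k))) [GrpObj B] [GeometricallyIntegral B.hom] (i : B ⟶ X) [IsMonHom i]
      [IsClosedImmersion i.left], Subsingleton ↥B.left ∨ IsIso i)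
    {G : X.left.Modules} (hG : PicF.IsInvertible G) (hsec : Nontrivial (Coh.HH X.left G 0))
    (hne : ¬ Nonempty (G ≅ Coh.structureModule X.left)) : CohB1.IsAmple G := by
  haveI : Nontrivial Γ(G, ⊤) :=
    (Sheaf.H.equiv₀ (Coh.toAb G) (isTerminalTop : IsTerminal (⊤ : X.left.Opens))).symm.toEquiv.nontrivial
  obtain ⟨s, hs⟩ := exists_ne (0 : Γ(G, ⊤))
  by_cases hfin : Set.Finite {a : 𝟙_ (Over (Spec (CommRingCat.of k))) ⟶ X |
      Nonempty ((Scheme.Modules.pullback (𝟙 X * (toUnit X ≫ a)).left).obj G ≅ G)}
  · exact AVAmple.isAmple_of_finite_fixing hG hs (hfin.subset fun a ha => (F_tr_eq_iff a).1 ha)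
  obtain ⟨C, iC, hCp, hCg, j, hjm, hjc, hinf, hj⟩ := exists_subvariety_stab hG hfin
  rcases hsimple C j with hC | hC
  · exact absurd hinf (not_infinite_iff_finite.2 (Finite.of_injective
      (fun a : 𝟙_ (Over (Spec (CommRingCat.of k))) ⟶ C => AVAmple.pt a) pt_injective))
  · have hinv : ∀ a, CubeAb.F (PicF.cl G) (CubeAb.tr a) = PicF.cl G := fun a => by
      refine (delta_eq_one hG a).1 ?_
      have h := hj (a ≫ inv j)
      rw [Category.assoc, IsIso.inv_hom_id, Category.comp_id] at h
      exact h
    have hadd := CubeAb.isAdditive_of_invariant ⟨G, rfl, hG⟩ hinv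
    have hnt : ¬ Triv G := fun ht => hne (PicMul.cl_eq_iff.1 ((CubeAb.cl_eq_one_iff _).2 ht))
    exfalso
    refine hs ?_
    rw [← InvX.one_ofSect s, hom_unit_eq_zero hG hadd hnt (InvX.ofSect s)]
    rfl

end Groth.Agent.AVTheta8
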